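import Cfsg.Agent.Lib.CharsMore.EMinDeg.Common

/-!
# The two degrees below the bound do not divide the order for twisted E6
-/

set_option autoImplicit false
set_option maxRecDepth 100000
set_option maxHeartbeats 4000000

namespace CfsgLib.CharsMore.TwMinDeg

open CfsgLib.CharsMore.EMinDeg

theorem excl_1 (q : ℕ) (hq : IsPrimePow q) :
    ¬ q * (q ^ 6 - q ^ 3 + 1) * (q ^ 4 + 1) - 1 ∣ q ^ 36 * ((q ^ 2 - 1) * (q ^ 10 - 1) * (q ^ 6 - 1) * (q ^ 8 - 1) * (q ^ 18 - 1) * (q ^ 12 - 1)) := by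
  intro hd
  have hq2 : 2 ≤ q := hq.two_le
  have h36 : q ^ 3 ≤ q ^ 6 := Nat.pow_le_pow_right (by omega) (by norm_num)
  rcases Nat.lt_or_ge q 25 with hlt | hge
  · exact (by decide +kernel : ∀ q < 25, 2 ≤ q →
      ¬ q * (q ^ 6 - q ^ 3 + 1) * (q ^ 4 + 1) - 1 ∣ q ^ 36 * ((q ^ 2 - 1) * (q ^ 10 - 1) * (q ^ 6 - 1) * (q ^ 8 - 1) * (q ^ 18 - 1) * (q ^ 12 - 1))) q hlt hq2 hd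
  refine no_dvd hq ((-1) + (1) * (q : ℤ) ^ 1 + (-1) * (q : ℤ) ^ 2 + (1) * (q : ℤ) ^ 3 + (-1) * (q : ℤ) ^ 4 + (1) * (q : ℤ) ^ 5 + (1) * (q : ℤ) ^ 7) (g := (1) + (-1) * (q : ℤ) ^ 2 + (1) * (q : ℤ) ^ 4) (j := 1) (N := 36) (T := q * (q ^ 6 - q ^ 3 + 1) * (q ^ 4 + 1))
    (L := [7, 77, 7, 7, 763, 259]) (d := [2, 10, 6, 8, 18, 12]) ?_ (by norm_num) (by omega) ?_ (by norm_num) (by positivity) ?_ (by simpa [mul_assoc] using hd)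
  · push_cast [Nat.cast_sub h36]; ring
  · obtain ⟨x, rfl⟩ := Nat.exists_eq_add_of_le hge
    have e : ((-1) + (1) * ((25 + x : ℕ) : ℤ) ^ 1 + (-1) * ((25 + x : ℕ) : ℤ) ^ 2 + (1) * ((25 + x : ℕ) : ℤ) ^ 3 + (-1) * ((25 + x : ℕ) : ℤ) ^ 4 + (1) * ((25 + x : ℕ) : ℤ) ^ 5 + (1) * ((25 + x : ℕ) : ℤ) ^ 7) - 5219262587 =
        (893643062) + (1710876826) * (x : ℤ) ^ 1 + (205230699) * (x : ℤ) ^ 2 + (13678026) * (x : ℤ) ^ 3 + (546999) * (x : ℤ) ^ 4 + (13126) * (x : ℤ) ^ 5 + (175) * (x : ℤ) ^ 6 + (1) * (x : ℤ) ^ 7 := by push_cast; ring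
    have h0 : (0 : ℤ) < (893643062) + (1710876826) * (x : ℤ) ^ 1 + (205230699) * (x : ℤ) ^ 2 + (13678026) * (x : ℤ) ^ 3 + (546999) * (x : ℤ) ^ 4 + (13126) * (x : ℤ) ^ 5 + (175) * (x : ℤ) ^ 6 + (1) * (x : ℤ) ^ 7 := by positivity
    norm_num
    push_cast at e h0 ⊢
    linarith
  · exact (List.Forall₂.cons ⟨(3) + (4) * (q : ℤ) ^ 1, (-10) + (-1) * (q : ℤ) ^ 1 + (-9) * (q : ℤ) ^ 2 + (-2) * (q : ℤ) ^ 3 + (-8) * (q : ℤ) ^ 4 + (-3) * (q : ℤ) ^ 5 + (-4) * (q : ℤ) ^ 6, by push_cast; ring⟩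
      (List.Forall₂.cons ⟨(-13) + (-29) * (q : ℤ) ^ 1 + (36) * (q : ℤ) ^ 2 + (27) * (q : ℤ) ^ 3 + (1) * (q : ℤ) ^ 4 + (20) * (q : ℤ) ^ 5 + (15) * (q : ℤ) ^ 6 + (-8) * (q : ℤ) ^ 7 + (-6) * (q : ℤ) ^ 8 + (34) * (q : ℤ) ^ 9, (-64) + (16) * (q : ℤ) ^ 1 + (-52) * (q : ℤ) ^ 2 + (25) * (q : ℤ) ^ 3 + (-26) * (q : ℤ) ^ 4 + (6) * (q : ℤ) ^ 5 + (-34) * (q : ℤ) ^ 6, by push_cast; ring⟩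
      (List.Forall₂.cons ⟨(1) + (-1) * (q : ℤ) ^ 1 + (1) * (q : ℤ) ^ 2 + (-1) * (q : ℤ) ^ 3 + (1) * (q : ℤ) ^ 4 + (6) * (q : ℤ) ^ 5, (-8) + (2) * (q : ℤ) ^ 1 + (-3) * (q : ℤ) ^ 2 + (4) * (q : ℤ) ^ 3 + (-5) * (q : ℤ) ^ 4 + (-1) * (q : ℤ) ^ 5 + (-6) * (q : ℤ) ^ 6, by push_cast; ring⟩
      (List.Forall₂.cons ⟨(-1) + (1) * (q : ℤ) ^ 1 + (6) * (q : ℤ) ^ 2 + (1) * (q : ℤ) ^ 3 + (-1) * (q : ℤ) ^ 4 + (1) * (q : ℤ) ^ 5 + (-1) * (q : ℤ) ^ 6 + (1) * (q : ℤ) ^ 7, (-6) + (-2) * (q : ℤ) ^ 1 + (-4) * (q : ℤ) ^ 2 + (3) * (q : ℤ) ^ 3 + (-2) * (q : ℤ) ^ 4 + (1) * (q : ℤ) ^ 5 + (-1) * (q : ℤ) ^ 6, by push_cast; ring⟩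
      (List.Forall₂.cons ⟨(-309) + (-188) * (q : ℤ) ^ 1 + (377) * (q : ℤ) ^ 2 + (-62) * (q : ℤ) ^ 3 + (-176) * (q : ℤ) ^ 4 + (288) * (q : ℤ) ^ 5 + (153) * (q : ℤ) ^ 6 + (-181) * (q : ℤ) ^ 7 + (-120) * (q : ℤ) ^ 8 + (127) * (q : ℤ) ^ 9 + (139) * (q : ℤ) ^ 10 + (50) * (q : ℤ) ^ 11 + (265) * (q : ℤ) ^ 12 + (260) * (q : ℤ) ^ 13 + (-148) * (q : ℤ) ^ 14 + (-174) * (q : ℤ) ^ 15 + (146) * (q : ℤ) ^ 16 + (316) * (q : ℤ) ^ 17, (-454) + (-121) * (q : ℤ) ^ 1 + (-256) * (q : ℤ) ^ 2 + (318) * (q : ℤ) ^ 3 + (-142) * (q : ℤ) ^ 4 + (-146) * (q : ℤ) ^ 5 + (-316) * (q : ℤ) ^ 6, by push_cast; ring⟩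
      (List.Forall₂.cons ⟨(-48) + (-43) * (q : ℤ) ^ 1 + (64) * (q : ℤ) ^ 2 + (-29) * (q : ℤ) ^ 3 + (1) * (q : ℤ) ^ 4 + (125) * (q : ℤ) ^ 5 + (85) * (q : ℤ) ^ 6 + (6) * (q : ℤ) ^ 7 + (-27) * (q : ℤ) ^ 8 + (-8) * (q : ℤ) ^ 9 + (36) * (q : ℤ) ^ 10 + (97) * (q : ℤ) ^ 11, (-211) + (-5) * (q : ℤ) ^ 1 + (-59) * (q : ℤ) ^ 2 + (88) * (q : ℤ) ^ 3 + (-89) * (q : ℤ) ^ 4 + (-36) * (q : ℤ) ^ 5 + (-97) * (q : ℤ) ^ 6, by push_cast; ring⟩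
      List.Forall₂.nil))))))

theorem excl_2 (q : ℕ) (hq : IsPrimePow q) :
    ¬ q * (q ^ 6 - q ^ 3 + 1) * (q ^ 4 + 1) - 2 ∣ q ^ 36 * ((q ^ 2 - 1) * (q ^ 10 - 1) * (q ^ 6 - 1) * (q ^ 8 - 1) * (q ^ 18 - 1) * (q ^ 12 - 1)) := by
  intro hd
  have hq2 : 2 ≤ q := hq.two_le
  have h36 : q ^ 3 ≤ q ^ 6 := Nat.pow_le_pow_right (by omega) (by norm_num)
  rcases Nat.lt_or_ge q 12 with hlt | hge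
  · exact (by decide +kernel : ∀ q < 12, 2 ≤ q →
      ¬ q * (q ^ 6 - q ^ 3 + 1) * (q ^ 4 + 1) - 2 ∣ q ^ 36 * ((q ^ 2 - 1) * (q ^ 10 - 1) * (q ^ 6 - 1) * (q ^ 8 - 1) * (q ^ 18 - 1) * (q ^ 12 - 1))) q hlt hq2 hd
  refine no_dvd hq ((2) + (1) * (q : ℤ) ^ 1 + (1) * (q : ℤ) ^ 2 + (1) * (q : ℤ) ^ 3 + (2) * (q : ℤ) ^ 4 + (1) * (q : ℤ) ^ 5 + (1) * (q : ℤ) ^ 6 + (1) * (q : ℤ) ^ 8 + (1) * (q : ℤ) ^ 9 + (1) * (q : ℤ) ^ 10) (g := (-1) + (1) * (q : ℤ) ^ 1) (j := 2) (N := 36) (T := q * (q ^ 6 - q ^ 3 + 1) * (q ^ 4 + 1))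
    (L := [12, 132, 36, 48, 108, 72]) (d := [2, 10, 6, 8, 18, 12]) ?_ (by norm_num) (by omega) ?_ (by norm_num) (by positivity) ?_ (by simpa [mul_assoc] using hd)
  · push_cast [Nat.cast_sub h36]; ring
  · obtain ⟨x, rfl⟩ := Nat.exists_eq_add_of_le hge
    have e : ((2) + (1) * ((12 + x : ℕ) : ℤ) ^ 1 + (1) * ((12 + x : ℕ) : ℤ) ^ 2 + (1) * ((12 + x : ℕ) : ℤ) ^ 3 + (2) * ((12 + x : ℕ) : ℤ) ^ 4 + (1) * ((12 + x : ℕ) : ℤ) ^ 5 + (1) * ((12 + x : ℕ) : ℤ) ^ 6 + (1) * ((12 + x : ℕ) : ℤ) ^ 8 + (1) * ((12 + x : ℕ) : ℤ) ^ 9 + (1) * ((12 + x : ℕ) : ℤ) ^ 10) - 42568187904 =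
        (24942216542) + (55755904201) * (x : ℤ) ^ 1 + (20723059045) * (x : ℤ) ^ 2 + (4564610305) * (x : ℤ) ^ 3 + (659863214) * (x : ℤ) ^ 4 + (65415241) * (x : ℤ) ^ 5 + (4503745) * (x : ℤ) ^ 6 + (212640) * (x : ℤ) ^ 7 + (6589) * (x : ℤ) ^ 8 + (121) * (x : ℤ) ^ 9 + (1) * (x : ℤ) ^ 10 := by push_cast; ring
    have h0 : (0 : ℤ) < (24942216542) + (55755904201) * (x : ℤ) ^ 1 + (20723059045) * (x : ℤ) ^ 2 + (4564610305) * (x : ℤ) ^ 3 + (659863214) * (x : ℤ) ^ 4 + (65415241) * (x : ℤ) ^ 5 + (4503745) * (x : ℤ) ^ 6 + (212640) * (x : ℤ) ^ 7 + (6589) * (x : ℤ) ^ 8 + (121) * (x : ℤ) ^ 9 + (1) * (x : ℤ) ^ 10 := by positivity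
    norm_num
    push_cast at e h0 ⊢
    linarith
  · exact (List.Forall₂.cons ⟨(2) + (-1) * (q : ℤ) ^ 1, (-8) + (-7) * (q : ℤ) ^ 2 + (1) * (q : ℤ) ^ 3 + (-4) * (q : ℤ) ^ 4 + (1) * (q : ℤ) ^ 5 + (-3) * (q : ℤ) ^ 6 + (-1) * (q : ℤ) ^ 8 + (1) * (q : ℤ) ^ 9, by push_cast; ring⟩
      (List.Forall₂.cons ⟨(62) + (-31) * (q : ℤ) ^ 1 + (2) * (q : ℤ) ^ 2 + (-7) * (q : ℤ) ^ 3 + (-22) * (q : ℤ) ^ 4 + (5) * (q : ℤ) ^ 5 + (-10) * (q : ℤ) ^ 6 + (29) * (q : ℤ) ^ 7 + (-10) * (q : ℤ) ^ 8 + (-7) * (q : ℤ) ^ 9, (-8) + (35) * (q : ℤ) ^ 2 + (19) * (q : ℤ) ^ 3 + (44) * (q : ℤ) ^ 4 + (-17) * (q : ℤ) ^ 5 + (-9) * (q : ℤ) ^ 6 + (-12) * (q : ℤ) ^ 7 + (17) * (q : ℤ) ^ 8 + (7) * (q : ℤ) ^ 9, by push_cast; ring⟩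
      (List.Forall₂.cons ⟨(2) + (-1) * (q : ℤ) ^ 1 + (14) * (q : ℤ) ^ 2 + (11) * (q : ℤ) ^ 3 + (-10) * (q : ℤ) ^ 4 + (-13) * (q : ℤ) ^ 5, (-32) + (29) * (q : ℤ) ^ 2 + (37) * (q : ℤ) ^ 3 + (8) * (q : ℤ) ^ 4 + (-11) * (q : ℤ) ^ 5 + (-15) * (q : ℤ) ^ 6 + (12) * (q : ℤ) ^ 7 + (23) * (q : ℤ) ^ 8 + (13) * (q : ℤ) ^ 9, by push_cast; ring⟩
      (List.Forall₂.cons ⟨(17) + (-16) * (q : ℤ) ^ 1 + (-1) * (q : ℤ) ^ 2 + (2) * (q : ℤ) ^ 3 + (-7) * (q : ℤ) ^ 4 + (8) * (q : ℤ) ^ 5 + (-1) * (q : ℤ) ^ 6 + (2) * (q : ℤ) ^ 7, (-14) + (-15) * (q : ℤ) ^ 1 + (-1) * (q : ℤ) ^ 2 + (4) * (q : ℤ) ^ 3 + (5) * (q : ℤ) ^ 4 + (-5) * (q : ℤ) ^ 5 + (-9) * (q : ℤ) ^ 7 + (-1) * (q : ℤ) ^ 8 + (-2) * (q : ℤ) ^ 9, by push_cast; ring⟩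
      (List.Forall₂.cons ⟨(29) + (-19) * (q : ℤ) ^ 1 + (5) * (q : ℤ) ^ 2 + (20) * (q : ℤ) ^ 3 + (-28) * (q : ℤ) ^ 4 + (-4) * (q : ℤ) ^ 5 + (-16) * (q : ℤ) ^ 6 + (17) * (q : ℤ) ^ 7 + (14) * (q : ℤ) ^ 8 + (2) * (q : ℤ) ^ 9 + (8) * (q : ℤ) ^ 10 + (-22) * (q : ℤ) ^ 11 + (-7) * (q : ℤ) ^ 12 + (-1) * (q : ℤ) ^ 13 + (23) * (q : ℤ) ^ 14 + (11) * (q : ℤ) ^ 15 + (-10) * (q : ℤ) ^ 16 + (-13) * (q : ℤ) ^ 17, (-50) + (-9) * (q : ℤ) ^ 1 + (20) * (q : ℤ) ^ 2 + (55) * (q : ℤ) ^ 3 + (8) * (q : ℤ) ^ 4 + (-20) * (q : ℤ) ^ 5 + (-24) * (q : ℤ) ^ 6 + (12) * (q : ℤ) ^ 7 + (23) * (q : ℤ) ^ 8 + (13) * (q : ℤ) ^ 9, by push_cast; ring⟩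
      (List.Forall₂.cons ⟨(29) + (-28) * (q : ℤ) ^ 1 + (23) * (q : ℤ) ^ 2 + (2) * (q : ℤ) ^ 3 + (-19) * (q : ℤ) ^ 4 + (-4) * (q : ℤ) ^ 5 + (-25) * (q : ℤ) ^ 6 + (26) * (q : ℤ) ^ 7 + (5) * (q : ℤ) ^ 8 + (20) * (q : ℤ) ^ 9 + (-1) * (q : ℤ) ^ 10 + (-22) * (q : ℤ) ^ 11, (-14) + (-27) * (q : ℤ) ^ 1 + (47) * (q : ℤ) ^ 2 + (28) * (q : ℤ) ^ 3 + (17) * (q : ℤ) ^ 4 + (-29) * (q : ℤ) ^ 5 + (-24) * (q : ℤ) ^ 6 + (3) * (q : ℤ) ^ 7 + (23) * (q : ℤ) ^ 8 + (22) * (q : ℤ) ^ 9, by push_cast; ring⟩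
      List.Forall₂.nil))))))

end CfsgLib.CharsMore.TwMinDeg
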