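import Cfsg.Agent.Lib.CharsMore.EMinDeg.Move
import Cfsg.Agent.Lib.Chev.Twist.Class
import Cfsg.Agent.Lib.Chev.BN2

/-!
# Weight spaces of the orbit subgroups of a twisted group

For a root `g` the element `Y g t` is `x_g(t)` times its image under the folded endomorphism.
A weight is a function on all roots; `W ρ S c` is where each `Y g t` with `g` in `S` acts by `Φ (c g * t)`.
-/

set_option autoImplicit false
set_option linter.unusedSectionVars false

namespace CfsgLib.CharsMore.TwMinDeg

open Cfsg.Lie CfsgLib.Chev CfsgLib.CharsMore.G2MinDeg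
open CfsgLib.CharsMore.EMinDeg (addR okPair shiftC srcB keepB hitB flatB runB grow suppF shiftsC Supp X X_val
  X_swap N N_mul_X T T_mul_X reflC wimg moveC elem_of_mem notMem_of_elem)

variable {D : ChevalleyDatum} {A : Aux} {F : Type*} [Field F] {h : Std D A} {f : Fold}

/-- the properties of the folded endomorphism used here -/
structure Pairing (τ : Twist F h f) (σ : F →+* F) : Prop where
  r_lt : ∀ r < D.nroots, f.r r < D.nroots
  r_r : ∀ r < D.nroots, f.r (f.r r) = r
  comm : ∀ r < D.nroots, commPair D A r (f.r r) = true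
  phi_phi : ∀ r < D.nroots, ∀ t, τ.phi (f.r r) (τ.phi r t) = t
  phi_add : ∀ r < D.nroots, ∀ t u, τ.phi r (t + u) = τ.phi r t + τ.phi r u
  phi_single : ∀ r < D.nroots, f.r r = r → ∀ t, τ.phi r t = σ t
  invol : ∀ x, σ (σ x) = x
  exists_half : ∃ ε : F, ε + σ ε = 1

variable {τ : Twist F h f} {σ : F →+* F}

lemma Pairing.phi_zero (hP : Pairing τ σ) {r : ℕ} (hr : r < D.nroots) : τ.phi r 0 = 0 := by
  simpa using hP.phi_add r hr 0 0

/-- a fixed element inside the ambient group -/
def inc (τ : Twist F h f) : ↥τ.fix →* ↥(D.group F) := Subgroup.inclusion τ.fix_le_group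

lemma inc_injective (τ : Twist F h f) : Function.Injective (inc τ) := Subgroup.inclusion_injective _

lemma sigma_inc (y : ↥τ.fix) : τ.sigma (inc τ y) = inc τ y := by
  obtain ⟨_, e⟩ := (τ.mem_fix).1 y.2
  exact Subtype.ext e

/-- a fixed point of the endomorphism as an element of the fixed group -/
def felt (τ : Twist F h f) (z : ↥(D.group F)) (hz : τ.sigma z = z) : ↥τ.fix :=
  ⟨z, (τ.mem_fix).2 ⟨z.2, congrArg Subtype.val hz⟩⟩

lemma inc_felt (z : ↥(D.group F)) (hz : τ.sigma z = z) : inc τ (felt τ z hz) = z := rfl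

lemma sigma_X {r : ℕ} (hr : r < D.nroots) (t : F) :
    τ.sigma (X h r t) = X h (f.r r) (τ.phi r t) := Subtype.ext (τ.sigma_x r hr t)

lemma X_commute {r s : ℕ} (e : commPair D A r s = true) (t u : F) : Commute (X h r t) (X h s u) :=
  Subtype.ext (commute_xG h e t u).eq

/-- the orbit element -/
noncomputable def Y (hP : Pairing τ σ) (r : ℕ) : AddChar F ↥τ.fix :=
  if hr : r < D.nroots then
    { toFun := fun t => felt τ (X h r t * X h (f.r r) (τ.phi r t)) (by
        rw [map_mul, sigma_X hr, sigma_X (hP.r_lt r hr), hP.r_r r hr, hP.phi_phi r hr]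
        exact (X_commute (hP.comm r hr) t _).eq.symm)
      map_zero_eq_one' := inc_injective τ (by
        rw [inc_felt, hP.phi_zero hr, AddChar.map_zero_eq_one, AddChar.map_zero_eq_one, one_mul,
          map_one])
      map_add_eq_mul' := fun t u => inc_injective τ (by
        simp only [map_mul, inc_felt, hP.phi_add r hr, AddChar.map_add_eq_mul]
        exact (X_commute (hP.comm r hr) u _).mul_mul_mul_comm _ _) }
  else 1

lemma inc_Y (hP : Pairing τ σ) {r : ℕ} (hr : r < D.nroots) (t : F) :
    inc τ (Y hP r t) = X h r t * X h (f.r r) (τ.phi r t) := by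
  rw [Y, dif_pos hr]
  rfl

lemma inc_Y_sigma (hP : Pairing τ σ) {r : ℕ} (hr : r < D.nroots) (t : F) :
    inc τ (Y hP r t) = X h r t * τ.sigma (X h r t) := by
  rw [inc_Y hP hr, sigma_X hr]

/-- the steps of the shift by `Y b x` -/
noncomputable def steps (f : Fold) (b : ℕ) : List ℕ := if Nat.beq (f.r b) b then [b] else [f.r b, b]

/-- the steps with parameters -/
noncomputable def stepsP (τ : Twist F h f) (b : ℕ) (x : F) : List (ℕ × F) :=
  if Nat.beq (f.r b) b then [(b, x + τ.phi b x)] else [(f.r b, τ.phi b x), (b, x)]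

lemma stepsP_fst (τ : Twist F h f) (b : ℕ) (x : F) : (stepsP τ b x).map Prod.fst = steps f b := by
  unfold stepsP steps
  split <;> rfl

/-- the shift of a weight by a list of steps -/
noncomputable def shiftL (D : ChevalleyDatum) (A : Aux) {F : Type*} [Field F] :
    List (ℕ × F) → (ℕ → F) → ℕ → F
  | [], c => c
  | (b, a) :: es, c => shiftL D A es (shiftC D A b a c)

/-- the element of a list of steps -/
noncomputable def prodS (h : Std D A) : List (ℕ × F) → ↥(D.group F)
  | [] => 1
  | (b, a) :: es => prodS h es * X h b a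

lemma inc_Y_steps (hP : Pairing τ σ) {b : ℕ} (hb : b < D.nroots) (x : F) :
    inc τ (Y hP b x) = prodS h (stepsP τ b x) := by
  rw [inc_Y hP hb]
  unfold stepsP
  split
  · rename_i e
    rw [prodS, prodS, one_mul, Nat.eq_of_beq_eq_true e, ← AddChar.map_add_eq_mul]
  · rw [prodS, prodS, prodS, one_mul]

/-- conjugating a word by one root element -/
noncomputable def conjW (A : Aux) {F : Type*} [Field F] (b : ℕ) (a : F) : List (ℕ × F) → List (ℕ × F)
  | [] => []
  | (g, t) :: L => if Nat.beq b g then (g, t) :: conjW A b a L else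
    match addR A b g with
    | some (k, κ) => (g, t) :: (k, (κ : F) * -a * t) :: conjW A b a L
    | none => (g, t) :: conjW A b a L

/-- the roots of a conjugated word -/
noncomputable def conjR (A : Aux) (b : ℕ) : List ℕ → List ℕ
  | [] => []
  | g :: L => if Nat.beq b g then g :: conjR A b L else
    match addR A b g with
    | some (k, _) => g :: k :: conjR A b L
    | none => g :: conjR A b L

lemma conjW_fst (b : ℕ) (a : F) : ∀ L : List (ℕ × F),
    (conjW A b a L).map Prod.fst = conjR A b (L.map Prod.fst)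
  | [] => rfl
  | (g, t) :: L => by
    simp only [conjW, conjR, List.map_cons]
    split
    · rw [List.map_cons, conjW_fst b a L]
    · split <;> rename_i heq <;> simp [conjW_fst b a L, heq]

/-- the element of a word -/
noncomputable def prodW (h : Std D A) (L : List (ℕ × F)) : ↥(D.group F) :=
  (L.map fun p => X h p.1 p.2).prod

lemma prod_conjW {b : ℕ} (a : F) : ∀ {L : List (ℕ × F)},
    (L.map Prod.fst).all (okPair D A b) = true →
    prodW h L * X h b a = X h b a * prodW h (conjW A b a L)
  | [], _ => by simp [conjW, prodW]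
  | (g, t) :: L, hok => by
    simp only [List.map_cons, List.all_cons, Bool.and_eq_true] at hok
    have ih := prod_conjW a hok.2
    simp only [prodW, conjW, List.map_cons, List.prod_cons] at ih ⊢
    rw [mul_assoc, ih, ← mul_assoc, X_swap h hok.1 a t]
    split
    · simp [mul_assoc]
    · rcases hk : addR A b g with _ | ⟨k, κ⟩ <;> simp [mul_assoc]

/-- the linear form of a word -/
def wsum {F : Type*} [Field F] (c : ℕ → F) (L : List (ℕ × F)) : F := (L.map fun p => c p.1 * p.2).sum

lemma wsum_conjW (b : ℕ) (a : F) (c : ℕ → F) : ∀ L : List (ℕ × F),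
    wsum c (conjW A b a L) = wsum (shiftC D A b a c) L
  | [] => rfl
  | (g, t) :: L => by
    have ih := wsum_conjW b a c L
    simp only [wsum, conjW, List.map_cons, List.sum_cons] at ih ⊢
    unfold shiftC
    rcases hbg : Nat.beq b g
    · simp only [Bool.false_eq_true, if_false]
      unfold shiftC at ih
      rcases hk : addR A b g with _ | ⟨k, κ⟩ <;> simp only [List.map_cons, List.sum_cons, ih]
      ring
    · simp only [if_true, List.map_cons, List.sum_cons]
      unfold shiftC at ih
      rw [ih]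

/-- conjugating by a list of steps -/
noncomputable def conjS (A : Aux) {F : Type*} [Field F] : List (ℕ × F) → List (ℕ × F) → List (ℕ × F)
  | [], L => L
  | (b, a) :: es, L => conjW A b a (conjS A es L)

/-- the roots of a word conjugated by steps -/
noncomputable def conjSR (A : Aux) : List ℕ → List ℕ → List ℕ
  | [], L => L
  | b :: es, L => conjR A b (conjSR A es L)

lemma conjS_fst : ∀ (es L : List (ℕ × F)),
    (conjS A es L).map Prod.fst = conjSR A (es.map Prod.fst) (L.map Prod.fst)
  | [], _ => rfl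
  | (b, a) :: es, L => by
    rw [conjS, conjW_fst, conjS_fst es L]
    rfl

/-- all commutators met in conjugating have one term -/
noncomputable def okS (D : ChevalleyDatum) (A : Aux) : List ℕ → List ℕ → Bool
  | [], _ => true
  | b :: es, L => okS D A es L && (conjSR A es L).all (okPair D A b)

lemma prod_conjS : ∀ {es L : List (ℕ × F)}, okS D A (es.map Prod.fst) (L.map Prod.fst) = true →
    prodW h L * prodS h es = prodS h es * prodW h (conjS A es L)
  | [], _, _ => by simp [prodS, conjS]
  | (b, a) :: es, L, hok => by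
    simp only [List.map_cons, okS, Bool.and_eq_true] at hok
    rw [← conjS_fst] at hok
    rw [prodS, conjS, ← mul_assoc, prod_conjS hok.1, mul_assoc, prod_conjW a hok.2, mul_assoc]

lemma wsum_conjS : ∀ (es L : List (ℕ × F)) (c : ℕ → F),
    wsum c (conjS A es L) = wsum (shiftL D A es c) L
  | [], _, _ => rfl
  | (b, a) :: es, L, c => by rw [conjS, wsum_conjW, wsum_conjS, shiftL]

/-- a word and its image regroup into orbit elements -/
noncomputable def commB (D : ChevalleyDatum) (A : Aux) (f : Fold) : List ℕ → Bool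
  | [] => true
  | x :: L => L.all (commPair D A (f.r x)) && commB D A f L

/-- regrouping, with one commutator of weight zero allowed -/
noncomputable def regB (D : ChevalleyDatum) (A : Aux) (f : Fold) (Z : List ℕ) (L : List ℕ) : Bool :=
  L.all (fun x => Nat.blt x D.nroots) && (commB D A f L || match L with
    | [g, k] => okPair D A (f.r g) k && !Nat.beq (f.r g) k && match addR A (f.r g) k with
      | some (m, _) => Nat.beq (f.r m) m && Z.elem m && commPair D A m (f.r k) && Nat.blt m D.nroots
      | none => false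
    | _ => false)

/-- the product of the orbit elements of a word -/
noncomputable def prodY (hP : Pairing τ σ) (L : List (ℕ × F)) : ↥τ.fix :=
  (L.map fun p => Y hP p.1 p.2).prod

lemma commute_prodW {r : ℕ} : ∀ {L : List (ℕ × F)}, (L.map Prod.fst).all (commPair D A r) = true →
    ∀ u, Commute (X h r u) (prodW h L)
  | [], _, u => by simp [prodW, Commute.one_right]
  | p :: L, hc, u => by
    simp only [List.map_cons, List.all_cons, Bool.and_eq_true] at hc
    simpa [prodW] using (X_commute hc.1 u p.2).mul_right (commute_prodW hc.2 u)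

lemma inc_prodY (hP : Pairing τ σ) : ∀ {L : List (ℕ × F)},
    (∀ p ∈ L, p.1 < D.nroots) → commB D A f (L.map Prod.fst) = true →
    inc τ (prodY hP L) = prodW h L * τ.sigma (prodW h L)
  | [], _, _ => by simp [prodY, prodW]
  | (g, t) :: L, hl, hc => by
    simp only [List.map_cons, commB, Bool.and_eq_true] at hc
    have hg := hl _ List.mem_cons_self
    have ih := inc_prodY hP (fun p hp => hl p (List.mem_cons_of_mem _ hp)) hc.2
    have hcm := commute_prodW (h := h) hc.1 (τ.phi g t)
    simp only [prodY, prodW, List.map_cons, List.prod_cons, map_mul] at ih hcm ⊢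
    rw [ih, inc_Y_sigma hP hg, sigma_X hg]
    exact hcm.mul_mul_mul_comm _ _

variable [Fintype F] {V : Type*} [AddCommGroup V] [Module ℂ V]
  (ρ : Representation ℂ ↥τ.fix V) (hP : Pairing τ σ) (Φ : AddChar F ℂ)

/-- the vectors of weight `c` for the orbit elements of `S` -/
noncomputable def W (S : List ℕ) (c : ℕ → F) : Submodule ℂ V where
  carrier := {v | ∀ g ∈ S, ∀ t, ρ (Y hP g t) v = Φ (c g * t) • v}
  add_mem' hu hv g hg t := by rw [map_add, hu g hg t, hv g hg t, smul_add]
  zero_mem' g _ t := by rw [map_zero, smul_zero]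
  smul_mem' a v hv g hg t := by rw [map_smul, hv g hg t, smul_comm]

variable {ρ hP Φ}

lemma W_mono {S S' : List ℕ} {c c' : ℕ → F} (hS : ∀ g ∈ S, g ∈ S') (hc : ∀ g ∈ S, c g = c' g) :
    W ρ hP Φ S' c' ≤ W ρ hP Φ S c := fun v hv g hg t => by rw [hc g hg]; exact hv g (hS g hg) t

lemma W_congr {S : List ℕ} {c c' : ℕ → F} (hc : ∀ g ∈ S, c g = c' g) :
    W ρ hP Φ S c = W ρ hP Φ S c' :=
  le_antisymm (W_mono (fun _ hg => hg) fun g hg => (hc g hg).symm) (W_mono (fun _ hg => hg) hc)

lemma rho_mul (x y : ↥τ.fix) (v : V) : ρ (x * y) v = ρ x (ρ y v) := by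
  rw [map_mul]; rfl

lemma rho_injective (x : ↥τ.fix) : Function.Injective (ρ x) := fun u v e => by
  have := congrArg (ρ x⁻¹) e
  rwa [← rho_mul, ← rho_mul, inv_mul_cancel, map_one] at this

lemma fixed_of_zero {S : List ℕ} {c : ℕ → F} {v : V} (hv : v ∈ W ρ hP Φ S c) {k : ℕ} (hk : k ∈ S)
    (hc : c k = 0) (t : F) : ρ (Y hP k t) v = v := by
  rw [hv k hk t, hc, zero_mul, AddChar.map_zero_eq_one, one_smul]

lemma prodY_apply {S : List ℕ} {c : ℕ → F} {v : V} (hv : v ∈ W ρ hP Φ S c) :
    ∀ {L : List (ℕ × F)}, (∀ p ∈ L, p.1 ∈ S) → ρ (prodY hP L) v = Φ (wsum c L) • v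
  | [], _ => by simp [prodY, wsum]
  | p :: L, hl => by
    have ih := prodY_apply hv fun q hq => hl q (List.mem_cons_of_mem _ hq)
    simp only [prodY, wsum, List.map_cons, List.prod_cons, List.sum_cons] at ih ⊢
    rw [rho_mul, ih, map_smul, hv _ (hl p List.mem_cons_self), smul_smul, AddChar.map_add_eq_mul,
      mul_comm]

/-- a fixed element built from a word is a product of orbit elements -/
theorem word_elem {Z : List ℕ} {L : List (ℕ × F)} (hr : regB D A f Z (L.map Prod.fst) = true)
    (y : ↥τ.fix) (hy : inc τ y = prodW h L * τ.sigma (prodW h L)) :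
    ∃ E : List (ℕ × F), (∀ p ∈ E, p.1 ∈ Z) ∧ y = prodY hP L * prodY hP E := by
  simp only [regB, Bool.and_eq_true, Bool.or_eq_true, List.all_map, List.all_eq_true,
    Function.comp_apply, Nat.blt_eq] at hr
  obtain ⟨hlt, hr | hr⟩ := hr
  · rw [← inc_prodY hP hlt hr] at hy
    exact ⟨[], by simp, by rw [inc_injective τ hy]; simp [prodY]⟩
  obtain ⟨g, t, k, u, rfl⟩ : ∃ g t k u, L = [(g, t), (k, u)] := by
    match L, hr with
    | [(g, t), (k, u)], _ => exact ⟨g, t, k, u, rfl⟩
    | [], hr => simp at hr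
    | [_], hr => simp at hr
    | _ :: _ :: _ :: _, hr => simp at hr
  simp only [List.map_cons, List.map_nil, Bool.and_eq_true, Bool.not_eq_true'] at hr
  obtain ⟨⟨hok, hne⟩, hm⟩ := hr
  rcases hk : addR A (f.r g) k with _ | ⟨m, κ⟩
  · rw [hk] at hm
    exact absurd hm Bool.false_ne_true
  rw [hk] at hm
  simp only [Bool.and_eq_true, Nat.blt_eq] at hm
  obtain ⟨⟨⟨hfm, hmZ⟩, hmk⟩, hmn⟩ := hm
  replace hfm := Nat.eq_of_beq_eq_true hfm
  replace hmZ := List.elem_iff.1 hmZ
  have hg := hlt (g, t) List.mem_cons_self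
  have hkn := hlt (k, u) (List.mem_cons_of_mem _ List.mem_cons_self)
  set d : F := (κ : F) * -τ.phi g t * u
  have hsw := X_swap h hok (τ.phi g t) u
  simp only [hne, Bool.false_eq_true, if_false, hk] at hsw
  have hy' : inc τ y = inc τ (Y hP g t * Y hP k u) * X h m d := by
    rw [hy, map_mul, inc_Y hP hg, inc_Y hP hkn]
    simp only [prodW, List.map_cons, List.map_nil, List.prod_cons, List.prod_nil, mul_one, map_mul,
      sigma_X hg, sigma_X hkn]
    calc X h g t * X h k u * (X h (f.r g) (τ.phi g t) * X h (f.r k) (τ.phi k u))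
        = X h g t * (X h k u * X h (f.r g) (τ.phi g t)) * X h (f.r k) (τ.phi k u) := by group
      _ = X h g t * (X h (f.r g) (τ.phi g t) * X h k u * X h m d) * X h (f.r k) (τ.phi k u) := by
        rw [hsw]
      _ = X h g t * X h (f.r g) (τ.phi g t) * X h k u * (X h m d * X h (f.r k) (τ.phi k u)) := by group
      _ = _ := by
        rw [(X_commute hmk d _).eq]
        group
  have hd : σ d = d := by
    have h1 : τ.sigma (X h m d) = X h m d := by
      have h2 : inc τ ((Y hP g t * Y hP k u)⁻¹ * y) = X h m d := by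
        rw [map_mul, map_inv, hy', inv_mul_cancel_left]
      rw [← h2, sigma_inc]
    rw [sigma_X hmn, hfm, hP.phi_single m hmn hfm] at h1
    have h3 := congrArg Subtype.val h1
    rw [X_val, X_val] at h3
    refine sub_eq_zero.1 (xG_eq_one h hmn (t := σ d - d) ?_)
    rw [sub_eq_add_neg, ← xG_add, h3, ← xG_inv, mul_inv_cancel]
  obtain ⟨ε, hε⟩ := hP.exists_half
  have hy2 : y = Y hP g t * Y hP k u * Y hP m (ε * d) := inc_injective τ (by
    rw [hy', map_mul _ _ (Y hP m (ε * d)), inc_Y hP hmn, hfm, hP.phi_single m hmn hfm, map_mul σ, hd,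
      ← AddChar.map_add_eq_mul, ← add_mul, hε, one_mul])
  exact ⟨[(m, ε * d)], by simpa using hmZ, by simpa [prodY] using hy2⟩

/-- the value of a fixed element built from a word -/
theorem apply_word {S Z : List ℕ} {c : ℕ → F} {v : V} (hv : v ∈ W ρ hP Φ S c) (hZS : ∀ z ∈ Z, z ∈ S)
    (hZ : ∀ z ∈ Z, c z = 0) {L : List (ℕ × F)} (hr : regB D A f Z (L.map Prod.fst) = true)
    (hL : ∀ p ∈ L, p.1 ∈ S) (y : ↥τ.fix) (hy : inc τ y = prodW h L * τ.sigma (prodW h L)) :
    ρ y v = Φ (wsum c L) • v := by
  obtain ⟨E, hE, rfl⟩ := word_elem (hP := hP) hr y hy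
  have h0 : wsum c E = 0 := List.sum_eq_zero fun x hx => by
    obtain ⟨p, hp, rfl⟩ := List.mem_map.1 hx
    rw [hZ _ (hE p hp), zero_mul]
  rw [rho_mul, prodY_apply hv (fun p hp => hZS _ (hE p hp)), h0, AddChar.map_zero_eq_one, one_smul,
    prodY_apply hv hL]

/-- the side conditions for `Y b` to act on weights -/
noncomputable def normB (D : ChevalleyDatum) (A : Aux) (f : Fold) (b : ℕ) (S S' Z : List ℕ) : Bool :=
  Nat.blt b D.nroots && Z.all (fun z => S'.elem z) &&
    S.all fun g => Nat.blt g D.nroots && okS D A (steps f b) [g] &&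
      (conjSR A (steps f b) [g]).all (fun k => S'.elem k) && regB D A f Z (conjSR A (steps f b) [g])

theorem Y_mem {S S' Z : List ℕ} {b : ℕ} (hb : normB D A f b S S' Z = true) {c : ℕ → F}
    (hZ : ∀ z ∈ Z, c z = 0) {v : V} (hv : v ∈ W ρ hP Φ S' c) (x : F) :
    ρ (Y hP b x) v ∈ W ρ hP Φ S (shiftL D A (stepsP τ b x) c) := by
  intro g hg t
  simp only [normB, Bool.and_eq_true, List.all_eq_true, Nat.blt_eq, List.elem_iff] at hb
  obtain ⟨⟨hbn, hZS⟩, hS⟩ := hb
  obtain ⟨⟨⟨hgn, hok⟩, hsub⟩, hreg⟩ := hS g hg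
  set es := stepsP τ b x
  have hes : es.map Prod.fst = steps f b := stepsP_fst τ b x
  set L := conjS A es [(g, t)]
  have hL : L.map Prod.fst = conjSR A (steps f b) [g] := by rw [conjS_fst, hes]; rfl
  have hcj := prod_conjS (h := h) (es := es) (L := [(g, t)]) (by rw [hes]; exact hok)
  set y := inc τ (Y hP b x) with hy
  have hye : y = prodS h es := inc_Y_steps hP hbn x
  have hw : inc τ ((Y hP b x)⁻¹ * (Y hP g t * Y hP b x)) = prodW h L * τ.sigma (prodW h L) := by
    have h1 : prodW h L = y⁻¹ * (X h g t * y) := by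
      rw [hye]
      simpa [prodW, eq_inv_mul_iff_mul_eq] using hcj.symm
    rw [map_mul, map_inv, map_mul, inc_Y_sigma hP hgn, ← hy, h1, map_mul, map_mul, map_inv, hy,
      sigma_inc]
    group
  have h2 := apply_word hv hZS hZ (L := L) (by rw [hL]; exact hreg)
    (fun p hp => hsub _ (hL ▸ List.mem_map_of_mem hp)) _ hw
  rw [← rho_mul, show Y hP g t * Y hP b x = Y hP b x * ((Y hP b x)⁻¹ * (Y hP g t * Y hP b x)) by group,
    rho_mul, h2, map_smul, wsum_conjS (D := D)]
  simp [wsum, es]

end CfsgLib.CharsMore.TwMinDeg
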