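import Cfsg.Agent.Lib.CharsMore.TwMinDeg.Indep

/-!
# Lines stable under orbit elements
-/

set_option autoImplicit false
set_option linter.unusedSectionVars false

namespace CfsgLib.CharsMore.TwMinDeg

open Cfsg.Lie CfsgLib.Chev CfsgLib.CharsMore.G2MinDeg Module
open CfsgLib.CharsMore.EMinDeg (addR okPair shiftC X elem_of_mem notMem_of_elem exists_smul_of_le_one)

variable {D : ChevalleyDatum} {A : Aux} {F : Type*} [Field F] [Fintype F] {h : Std D A} {f : Fold}
  {τ : Twist F h f} {σ : F →+* F}
  {V : Type*} [AddCommGroup V] [Module ℂ V]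
  {ρ : Representation ℂ ↥τ.fix V} {hP : Pairing τ σ} {Φ : AddChar F ℂ}

lemma conjS_head : ∀ (es : List (ℕ × F)) (p : ℕ × F), ∃ r, conjS A es [p] = p :: r
  | [], p => ⟨[], rfl⟩
  | (b, a) :: es, p => by
    obtain ⟨r, hr⟩ := conjS_head es p
    obtain ⟨g, t⟩ := p
    rw [conjS, hr, conjW]
    split
    · exact ⟨_, rfl⟩
    · rcases addR A b g with _ | ⟨k, κ⟩ <;> exact ⟨_, rfl⟩

/-- the conjugate of `x_e` by `Y a` has one further term, at `k` -/
noncomputable def comB (D : ChevalleyDatum) (A : Aux) (f : Fold) (Z : List ℕ) (k a e : ℕ) : Bool :=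
  Nat.blt a D.nroots && Nat.blt e D.nroots && !Nat.beq a e && regB D A f Z [e, k] &&
    okS D A (steps f a) [e] && (match addR A a e with
      | some (k', κ) => Nat.beq k' k && Nat.beq κ.natAbs 1
      | none => false) &&
    (Nat.beq (f.r a) a || (!Nat.beq (f.r a) e && !Nat.beq (f.r a) k &&
      (addR A (f.r a) e).isNone && (addR A (f.r a) k).isNone))

/-- commuting orbit elements fix the vector at the commutator -/
theorem comm_fixed {Z : List ℕ} {k a e : ℕ} (hb : comB D A f Z k a e = true) {v : V}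
    (hc : ∀ x t, ρ (Y hP e t) (ρ (Y hP a x) v) = ρ (Y hP a x) (ρ (Y hP e t) v))
    (hZ : ∀ z ∈ Z, ∀ t, ρ (Y hP z t) v = v) (u : F) : ρ (Y hP k u) v = v := by
  simp only [comB, Bool.and_eq_true, Bool.not_eq_true', Nat.blt_eq] at hb
  obtain ⟨⟨⟨⟨⟨⟨han, hen⟩, hae⟩, hreg⟩, hok⟩, hk⟩, hbar⟩ := hb
  rcases hke : addR A a e with _ | ⟨k', κ⟩
  · rw [hke] at hk
    exact absurd hk Bool.false_ne_true
  rw [hke] at hk
  simp only [Bool.and_eq_true] at hk
  obtain rfl := Nat.eq_of_beq_eq_true hk.1
  have hκ : (κ : F) ≠ 0 := by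
    rcases Int.natAbs_eq_iff.1 (Nat.eq_of_beq_eq_true hk.2) with e | e <;> simp [e]
  obtain ⟨ε, hε⟩ := hP.exists_half
  set t := -u / κ
  have hu : (κ : F) * -1 * t = u := by
    simp only [t]
    field_simp
  have key : ∃ x, conjS A (stepsP τ a x) [(e, t)] = [(e, t), (k', u)] := by
    unfold stepsP
    rcases hfa : Nat.beq (f.r a) a
    · simp only [hfa, Bool.false_or, Bool.and_eq_true, Bool.not_eq_true',
        Option.isNone_iff_eq_none] at hbar
      refine ⟨1, ?_⟩
      simp only [Bool.false_eq_true, if_false, conjS, conjW, hae, hke, hbar.1.1.1, hbar.1.1.2,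
        hbar.1.2, hbar.2, hu]
    · refine ⟨ε, ?_⟩
      simp only [if_true, conjS, conjW, hae, hke, Bool.false_eq_true, if_false]
      rw [hP.phi_single a han (Nat.eq_of_beq_eq_true hfa), hε, hu]
  obtain ⟨x, hx⟩ := key
  set es := stepsP τ a x
  have hes : es.map Prod.fst = steps f a := stepsP_fst τ a x
  have hcj := prod_conjS (h := h) (es := es) (L := [(e, t)]) (by rw [hes]; exact hok)
  rw [hx] at hcj
  set y := inc τ (Y hP a x) with hy
  have hye : y = prodS h es := inc_Y_steps hP han x
  have hw : inc τ ((Y hP a x)⁻¹ * (Y hP e t * Y hP a x)) =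
      prodW h [(e, t), (k', u)] * τ.sigma (prodW h [(e, t), (k', u)]) := by
    have h1 : prodW h [(e, t), (k', u)] = y⁻¹ * (X h e t * y) := by
      rw [hye, eq_inv_mul_iff_mul_eq]
      simpa [prodW] using hcj.symm
    rw [map_mul, map_inv, map_mul, inc_Y_sigma hP hen, ← hy, h1, map_mul, map_mul, map_inv, hy,
      sigma_inc]
    group
  obtain ⟨E, hE, hel⟩ := word_elem (hP := hP) (L := [(e, t), (k', u)]) hreg _ hw
  have hE1 : ∀ (E : List (ℕ × F)), (∀ p ∈ E, p.1 ∈ Z) → ρ (prodY hP E) v = v := by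
    intro E
    induction E with
    | nil => simp [prodY]
    | cons p E ih =>
      intro hp
      simp only [prodY, List.map_cons, List.prod_cons] at ih ⊢
      rw [rho_mul, ih fun q hq => hp q (List.mem_cons_of_mem _ hq), hZ _ (hp p List.mem_cons_self)]
  have h1 : ρ ((Y hP a x)⁻¹ * (Y hP e t * Y hP a x)) v = ρ (Y hP e t) v := by
    rw [rho_mul, rho_mul, hc, ← rho_mul, inv_mul_cancel, map_one]
    rfl
  rw [hel, rho_mul, hE1 E hE] at h1
  simp only [prodY, List.map_cons, List.map_nil, List.prod_cons, List.prod_nil, mul_one] at h1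
  rw [rho_mul] at h1
  exact rho_injective (ρ := ρ) _ h1

variable (D A f) in
/-- the checks: `none` for an element fixing the line, `some (a, e)` for a commutator -/
noncomputable def lineB (A₀ : List ℕ) : List (ℕ × Option (ℕ × ℕ)) → List ℕ → List ℕ → Bool
  | [], _, _ => true
  | (b, none) :: st, E, T =>
    normB D A f b A₀ (T ++ A₀) T &&
      A₀.all (fun g => (conjSR A (steps f b) [g]).tail.all fun k => T.elem k) &&
      lineB A₀ st (b :: f.r b :: E) T
  | (k, some (a, e)) :: st, E, T =>
    E.elem a && E.elem e && comB D A f T k a e && Nat.blt k D.nroots && !A₀.elem k &&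
      !A₀.elem (f.r k) && lineB A₀ st (k :: f.r k :: E) (k :: f.r k :: T)

/-- the roots shown to act trivially -/
noncomputable def lineT (f : Fold) : List (ℕ × Option (ℕ × ℕ)) → List ℕ → List ℕ
  | [], T => T
  | (_, none) :: st, T => lineT f st T
  | (k, some _) :: st, T => lineT f st (k :: f.r k :: T)

lemma Y_bar (hP : Pairing τ σ) {r : ℕ} (hr : r < D.nroots) (t : F) :
    Y hP (f.r r) t = Y hP r (τ.phi (f.r r) t) := inc_injective τ (by
  rw [inc_Y hP hr, inc_Y hP (hP.r_lt r hr), hP.r_r r hr]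
  have h4 := hP.phi_phi (f.r r) (hP.r_lt r hr) t
  rw [hP.r_r r hr] at h4
  rw [h4]
  exact (X_commute (hP.comm r hr) _ _).eq.symm)

variable [FiniteDimensional ℂ V]

theorem line_fixed {A₀ : List ℕ} {c : ℕ → F}
    (hdim : finrank ℂ (W ρ hP Φ A₀ c) ≤ 1) {v : V} (hv0 : v ≠ 0) (hv : v ∈ W ρ hP Φ A₀ c) :
    ∀ (st : List (ℕ × Option (ℕ × ℕ))) {E T : List ℕ}, lineB D A f A₀ st E T = true →
    (∀ e ∈ E, ∀ t, ∃ z : ℂ, z • v = ρ (Y hP e t) v) →
    (∀ g ∈ T, ∀ t, ρ (Y hP g t) v = v) → (∀ g ∈ A₀, g ∈ T → c g = 0) →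
    ∀ g ∈ lineT f st T, ∀ t, ρ (Y hP g t) v = v
  | [], E, T, _, _, hT, _ => hT
  | (b, none) :: st, E, T, hb, hE, hT, hAT => by
    simp only [lineB, Bool.and_eq_true, List.all_eq_true, List.elem_iff] at hb
    obtain ⟨⟨hn, htail⟩, hrest⟩ := hb
    have hbn : b < D.nroots := by
      simp only [normB, Bool.and_eq_true, Nat.blt_eq] at hn
      exact hn.1.1
    have heig : ∀ t, ∃ z : ℂ, z • v = ρ (Y hP b t) v := by
      intro t
      classical
      let c' : ℕ → F := fun g => if g ∈ T then 0 else c g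
      have hv' : v ∈ W ρ hP Φ (T ++ A₀) c' := fun g hg t => by
        by_cases hgT : g ∈ T
        · rw [hT g hgT t, show c' g = 0 from if_pos hgT, zero_mul, AddChar.map_zero_eq_one, one_smul]
        · rw [show c' g = c g from if_neg hgT]
          exact hv g ((List.mem_append.1 hg).resolve_left hgT) t
      have h1 := Y_mem hn (fun z hz => if_pos hz) hv' t
      have h2 : W ρ hP Φ A₀ (shiftL D A (stepsP τ b t) c') = W ρ hP Φ A₀ c := W_congr fun g hg => by
        have h3 := wsum_conjS (D := D) (A := A) (stepsP τ b t) [(g, 1)] c'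
        obtain ⟨r, hr⟩ := conjS_head (A := A) (stepsP τ b t) (g, 1)
        have h4 : wsum c' r = 0 := List.sum_eq_zero fun x hx => by
          obtain ⟨p, hp, rfl⟩ := List.mem_map.1 hx
          have hm : p.1 ∈ T := by
            refine htail g hg p.1 ?_
            have h5 := conjS_fst (A := A) (stepsP τ b t) [(g, (1 : F))]
            rw [hr, stepsP_fst, List.map_cons] at h5
            simp only [List.map_cons, List.map_nil] at h5
            rw [← h5, List.tail_cons]
            exact List.mem_map_of_mem hp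
          rw [show c' p.1 = 0 from if_pos hm, zero_mul]
        rw [hr] at h3
        simp only [wsum, List.map_cons, List.sum_cons, List.map_nil, List.sum_nil, add_zero,
          mul_one] at h3 h4
        rw [h4, add_zero] at h3
        rw [← h3]
        by_cases hgT : g ∈ T
        · rw [show c' g = 0 from if_pos hgT, hAT g hg hgT]
        · exact if_neg hgT
      rw [h2] at h1
      exact exists_smul_of_le_one hdim hv hv0 h1
    refine line_fixed hdim hv0 hv st hrest (fun e he t => ?_) hT hAT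
    rcases List.mem_cons.1 he with rfl | he
    · exact heig t
    rcases List.mem_cons.1 he with rfl | he
    · rw [Y_bar hP hbn]
      exact heig _
    · exact hE e he t
  | (k, some (a, e)) :: st, E, T, hb, hE, hT, hAT => by
    simp only [lineB, Bool.and_eq_true, List.elem_iff, Bool.not_eq_true', Nat.blt_eq] at hb
    obtain ⟨⟨⟨⟨⟨⟨ha, he⟩, hcom⟩, hkn⟩, hkA⟩, hkA'⟩, hrest⟩ := hb
    have hfix : ∀ t, ρ (Y hP k t) v = v := fun t => comm_fixed hcom (fun x s => by
      obtain ⟨z, hz⟩ := hE a ha x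
      obtain ⟨z', hz'⟩ := hE e he s
      simp only [← hz, ← hz', map_smul, smul_smul, mul_comm]) hT t
    have hfix' : ∀ t, ρ (Y hP (f.r k) t) v = v := fun t => by rw [Y_bar hP hkn]; exact hfix _
    refine line_fixed hdim hv0 hv st hrest (fun e' he' t => ?_) (fun g hg t => ?_) fun g hg hg' => ?_
    · rcases List.mem_cons.1 he' with rfl | he'
      · exact ⟨1, by rw [one_smul, hfix]⟩
      rcases List.mem_cons.1 he' with rfl | he'
      · exact ⟨1, by rw [one_smul, hfix']⟩
      · exact hE e' he' t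
    · rcases List.mem_cons.1 hg with rfl | hg
      · exact hfix t
      rcases List.mem_cons.1 hg with rfl | hg
      · exact hfix' t
      · exact hT g hg t
    · rcases List.mem_cons.1 hg' with rfl | hg'
      · exact absurd hg (notMem_of_elem hkA)
      rcases List.mem_cons.1 hg' with rfl | hg'
      · exact absurd hg (notMem_of_elem hkA')
      · exact hAT g hg hg'

end CfsgLib.CharsMore.TwMinDeg
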