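import Cfsg.Agent.Lib.CharsMore.TwMinDeg.Group
import Cfsg.Agent.Lib.CharsMore.TwMinDeg.Line

/-!
# The certificate for the twisted type E6
-/

set_option autoImplicit false
set_option maxRecDepth 100000

namespace CfsgLib.CharsMore.TwMinDeg

open Cfsg.Lie CfsgLib.Chev

/-- the highest root -/
def th : ℕ := 71
/-- the highest weight of the radical -/
def t1 : ℕ := 70
/-- the abelian half of the radical -/
def A0 : List ℕ := [51, 52, 55, 62, 63, 66, 67, 68, 69, 70]
/-- shifts from the highest root -/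
def clrA : List (ℕ × ℕ) := [(46, 70), (47, 69), (50, 66), (61, 55), (53, 63), (64, 52), (65, 51)]
/-- steps for the line -/
def lsteps : List (ℕ × Option (ℕ × ℕ)) := [(13, none), (15, none), (24, none), (28, none), (32, none), (36, none), (37, none), (38, none), (40, none), (41, none), (44, none), (45, none), (60, none), (28, some (13, 56)), (32, some (13, 57)), (35, some (30, 40)), (37, some (13, 59)), (13, some (15, 28)), (40, some (35, 41)), (44, some (15, 59)), (36, some (31, 41)), (57, some (31, 59)), (41, some (36, 40)), (60, some (36, 59)), (45, some (42, 41)), (6, none), (18, none), (25, none), (24, some (32, 25)), (7, none), (10, none), (21, none), (6, some (30, 10)), (17, some (30, 21)), (10, some (15, 21)), (18, some (31, 21)), (21, some (56, 10)), (25, some (43, 21))]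
/-- the highest root and the radical -/
def S1 : List ℕ := [71, 46, 47, 48, 49, 50, 51, 52, 53, 54, 55, 61, 62, 63, 64, 65, 66, 67, 68, 69, 70]
/-- the classes: root, word from the highest root, word from `t1`, shifts -/
def classes : List (ℕ × List ℕ × List ℕ × List (ℕ × ℕ)) :=
  [(70, [0, 1], [], [(39, 69), (43, 66), (58, 55), (44, 65), (59, 54), (60, 53)]),
   (69, [0, 1, 0], [1], [(42, 66), (57, 55), (44, 63), (59, 52), (60, 51)]),
   (65, [2, 0, 1, 0], [2, 1], [(56, 54), (39, 63), (58, 49), (60, 47)]),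
   (63, [1, 2, 0, 1, 0], [1, 2, 1], [(56, 52), (57, 49), (60, 46)]),
   (53, [3, 2, 0, 1, 0], [3, 2, 1], [(39, 51), (43, 48), (44, 47)]),
   (51, [3, 1, 2, 0, 1, 0], [3, 1, 2, 1], [(42, 48), (44, 46)]),
   (47, [2, 3, 1, 2, 0, 1, 0], [2, 3, 1, 2, 1], [(39, 46)]),
   (46, [1, 2, 3, 1, 2, 0, 1, 0], [1, 2, 3, 1, 2, 1], [])]
/-- the classes with shifts -/
def cls1 : List (ℕ × List (ℕ × ℕ)) := classes.map fun p => (p.1, p.2.2.2)
/-- the roots fixed by the symmetry with words from the highest root -/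
def longR : List (ℕ × List ℕ) :=
  [(0, [0, 1, 2, 3, 1, 2, 0, 1, 2, 3, 0, 1, 2, 1, 0]),
   (1, [1, 2, 3, 1, 2, 0, 1, 2, 3, 0, 1, 2, 1, 0]),
   (2, [2, 3, 1, 2, 0, 1, 2, 3, 0, 1, 2, 1, 0]),
   (6, [3, 1, 2, 0, 1, 2, 3, 0, 1, 2, 1, 0]),
   (8, [3, 2, 0, 1, 2, 3, 0, 1, 2, 1, 0]),
   (11, [3, 2, 1, 2, 3, 0, 1, 2, 1, 0]),
   (18, [1, 2, 0, 1, 2, 3, 0, 1, 2, 1, 0]),
   (20, [2, 0, 1, 2, 3, 0, 1, 2, 1, 0]),
   (24, [0, 1, 2, 3, 0, 1, 2, 1, 0]),
   (25, [0, 1, 2, 3, 1, 2, 1, 0]),
   (27, [2, 1, 2, 3, 0, 1, 2, 1, 0]),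
   (32, [1, 2, 3, 0, 1, 2, 1, 0]),
   (39, [2, 3, 0, 1, 2, 1, 0]),
   (44, [3, 0, 1, 2, 1, 0]),
   (46, [1, 2, 3, 1, 2, 1, 0]),
   (47, [2, 3, 1, 2, 1, 0]),
   (51, [3, 1, 2, 1, 0]),
   (53, [3, 2, 1, 0]),
   (60, [0, 1, 2, 1, 0]),
   (63, [1, 2, 1, 0]),
   (65, [2, 1, 0]),
   (69, [1, 0]),
   (70, [0]),
   (71, [])]
/-- short generators as commutators -/
def shortG : List (ℕ × ℕ × ℕ) := [(56, 18, 64), (15, 6, 54), (42, 6, 68), (29, 2, 66)]

/-- a later stage -/
structure Stg where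
  /-- fixed roots -/
  P : List ℕ
  /-- the radical -/
  R : List ℕ
  /-- its highest root -/
  r : ℕ
  /-- shifts -/
  st : List (ℕ × ℕ)
  /-- word from the highest root -/
  js : List ℕ

/-- a stage -/
def stg2 : Stg := ⟨[71, 46, 47, 48, 49, 50, 51, 52, 53, 54, 55, 61, 62, 63, 64, 65, 66, 67, 68, 69, 70], [60, 56, 57, 36, 38], 60, [(58, 38), (59, 36)], [1, 2, 0, 1, 2, 3, 1, 0]⟩

/-- a stage -/
def stg3 : Stg := ⟨[71, 46, 47, 48, 49, 50, 51, 52, 53, 54, 55, 61, 62, 63, 64, 65, 66, 67, 68, 69, 70, 60, 56, 57, 58, 59, 45, 41, 38, 36], [44, 42, 37], 44, [(43, 37)], [0, 1, 2, 3, 2, 1, 0]⟩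

/-- a stage -/
def stg4 : Stg := ⟨[71, 46, 47, 48, 49, 50, 51, 52, 53, 54, 55, 61, 62, 63, 64, 65, 66, 67, 68, 69, 70, 60, 56, 57, 58, 59, 45, 41, 38, 36, 44, 42, 43, 40, 37], [39], 39, [], [2, 0, 1, 2, 3, 2, 0, 1, 0]⟩

/-- the critical long root -/
def ra : ℕ := 8
/-- its sum with the highest root -/
def rb : ℕ := 53
/-- the clearing shift -/
def cb : ℕ := 63
/-- the known roots before extending -/
def U0 : List ℕ := [6, 7, 10, 15, 17, 21, 22, 23, 24, 25, 32, 35, 37, 38, 40, 41, 42, 43, 44, 45, 51, 52, 55, 57, 58, 59, 60, 62, 66, 67, 68, 69, 70, 71]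
/-- word of the second weight -/
def wA : List ℕ := [1, 2, 3, 1, 2, 0, 1, 2, 3, 1, 0]
/-- word of the first weight -/
def wB : List ℕ := [0, 1]
/-- the separating root -/
def rp : ℕ := 32

/-- a move by a word carrying `src` to `dst` -/
noncomputable def goB (js S S' : List ℕ) (src dst : ℕ) : Bool :=
  js.all (fun j => Nat.blt j foldE62.num) && moveB chevE6 auxE6 (word js) S S' &&
    Nat.beq (CfsgLib.CharsMore.EMinDeg.wimg auxE6 (word js) src) dst && S.elem src

/-- the checks for the abelian top -/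
noncomputable def topB : Bool :=
  extB chevE6 auxE6 foldE62 A0 [th] [] && clsB chevE6 auxE6 foldE62 [] (th :: A0) [] (th, clrA) &&
    clearB chevE6 auxE6 foldE62 (th :: A0) th clrA [] &&
    A0.all (fun g => clrA.any fun p => Nat.beq p.2 g || Nat.beq (foldE62.r p.2) g) && !A0.elem th &&
    Nat.beq (auxE6.cart 1 th).natAbs 1 && Nat.beq (foldE62.p 1) 1 &&
    lineB chevE6 auxE6 foldE62 (th :: A0) lsteps (th :: A0) A0 && !(lineT foldE62 lsteps A0).elem th &&
    Nat.beq (foldE62.r th) th && Nat.blt th chevE6.nroots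

/-- the checks for the long roots and short generators -/
noncomputable def movedB : Bool :=
  longR.all (fun p => goB p.2 [th] [p.1] th p.1) &&
    genR.all (fun r => (longR.map Prod.fst).elem r || shortG.any fun p => Nat.beq p.1 r &&
      comB chevE6 auxE6 foldE62 (longR.map Prod.fst) p.1 p.2.1 p.2.2 && (longR.map Prod.fst).elem p.2.1)

/-- the checks for the first orbit -/
noncomputable def orb1B : Bool :=
  orbB chevE6 auxE6 foldE62 [th] S1 [th] cls1 && S1.elem t1 && Nat.beq (foldE62.r t1) t1 &&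
    classes.all (fun p => goB p.2.1 (th :: lineT foldE62 lsteps A0) S1 th p.1 &&
      goB p.2.2.1 S1 S1 t1 p.1) &&
    Nat.beq (auxE6.cart 3 t1).natAbs 1 && Nat.beq (foldE62.p 3) 3 && S1.all (fun g => Nat.blt g chevE6.nroots)

/-- the checks for the extension -/
noncomputable def caseB : Bool :=
  U0.all (fun g => (th :: lineT foldE62 lsteps A0).elem g) && U0.elem th &&
    fixB chevE6 auxE6 foldE62 rb U0 (U0.erase th) &&
    clearB chevE6 auxE6 foldE62 (rb :: U0) th [(cb, rb)] (U0.erase th) &&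
    fixB chevE6 auxE6 foldE62 ra (rb :: U0) (rb :: U0.erase th) && !U0.elem rb && !Nat.beq ra th &&
    !(rb :: U0).elem ra && Nat.beq (foldE62.r ra) ra && Nat.blt ra chevE6.nroots && !Nat.beq rb th &&
    goB wA (ra :: rb :: U0) (rp :: S1) ra t1 && goB wA (ra :: rb :: U0) (rp :: S1) th rp &&
    goB wB (th :: lineT foldE62 lsteps A0) (rp :: S1) th t1 && !S1.elem rp

/-- the checks for a later stage -/
noncomputable def stgB (s : Stg) : Bool :=
  orbB chevE6 auxE6 foldE62 s.P (s.P ++ s.R) s.P [(s.r, s.st)] &&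
    goB s.js (ra :: rb :: U0) (s.P ++ s.R) th s.r

/-- the inclusions between the stages -/
noncomputable def linkB : Bool :=
  S1.all (fun g => stg2.P.elem g) && stg2.P.all (fun g => S1.elem g) &&
    (stg2.P ++ stg2.R).all (fun g => stg3.P.elem g) && (stg3.P ++ stg3.R).all (fun g => stg4.P.elem g)

theorem topB_ok : topB = true := by decide +kernel
theorem movedB_ok : movedB = true := by decide +kernel
theorem orb1B_ok : orb1B = true := by decide +kernel
theorem caseB_ok : caseB = true := by decide +kernel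
theorem stg2_ok : stgB stg2 = true := by decide +kernel
theorem stg3_ok : stgB stg3 = true := by decide +kernel
theorem stg4_ok : stgB stg4 = true := by decide +kernel
theorem linkB_ok : linkB = true := by decide +kernel

end CfsgLib.CharsMore.TwMinDeg
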