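import Cfsg.Agent.Lib.CharsMore.TwMinDeg.Global
import Cfsg.Agent.Lib.CharsMore.TwMinDeg.Arith

/-!
# The smallest degree for twisted E6
-/

set_option autoImplicit false
set_option maxRecDepth 100000

namespace CfsgLib.CharsMore.TwMinDeg

open Cfsg.Lie CfsgLib.Chev Module

variable {K : Type*} [Field K] [Fintype K] {q : ℕ} {σ : K →+* K}

theorem min_degree_fix (hσ : ∀ x, σ x = x ^ q) (hK : Fintype.card K = q ^ 2) (hq : IsPrimePow q)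
    {k : ℕ} (ρ : Representation ℂ ↥(E62.tw σ).fix (Fin k → ℂ)) (hρ : ρ.IsIrreducible) (hk : 2 ≤ k) :
    q * (q ^ 6 - q ^ 3 + 1) * (q ^ 4 + 1) ≤ k := by
  haveI := hρ
  haveI : Finite (GL chevE6.Idx K) := finite_GL
  set hP := pairing (K := K) hσ hK
  obtain ⟨ε, hε⟩ := hP.exists_half
  obtain ⟨Φ, hΦ⟩ := exists_goodChar hP.invol hε
  have hb := degree_bound (ρ := ρ) (hP := hP) hΦ hK (card_fixed hσ hK) (exists_moved hσ hK ρ hρ hk)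
  rw [finrank_fin_fun] at hb
  have h1 := CfsgLib.Chars.finrank_dvd_card ρ
  rw [finrank_fin_fun] at h1
  obtain ⟨-, hord⟩ := E62.orders (K := K) (σ := σ) hσ hK
  have h2 : k ∣ q ^ 36 * ((q ^ 2 - 1) * (q ^ 10 - 1) * (q ^ 6 - 1) * (q ^ 8 - 1) * (q ^ 18 - 1) *
      (q ^ 12 - 1)) := by
    refine (h1.trans (Dvd.intro_left _ hord)).trans ?_
    have e5 : q ^ 5 + 1 ∣ q ^ 10 - 1 := ⟨q ^ 5 - 1, by
      rw [← Nat.sq_sub_sq, one_pow, ← pow_mul]⟩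
    have e9 : q ^ 9 + 1 ∣ q ^ 18 - 1 := ⟨q ^ 9 - 1, by
      rw [← Nat.sq_sub_sq, one_pow, ← pow_mul]⟩
    simp only [mul_assoc]
    gcongr
  by_contra hlt
  obtain ⟨j, hj1, hj2, hj⟩ : ∃ j, 1 ≤ j ∧ j ≤ 2 ∧ k = q * (q ^ 6 - q ^ 3 + 1) * (q ^ 4 + 1) - j :=
    ⟨q * (q ^ 6 - q ^ 3 + 1) * (q ^ 4 + 1) - k, by omega, by omega, by omega⟩
  rw [hj] at h2
  interval_cases j
  · exact excl_1 q hq h2
  · exact excl_2 q hq h2

theorem min_degree_twistedE6 (hq : IsPrimePow q) (hK : Fintype.card K = q ^ 2) {k : ℕ}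
    (ρ : Representation ℂ ↥(twistedE6 K q) (Fin k → ℂ)) (hρ : ρ.IsIrreducible) (hk : 2 ≤ k) :
    q * (q ^ 6 - q ^ 3 + 1) * (q ^ 4 + 1) ≤ k := by
  obtain ⟨σ, hσ⟩ := exists_powHom (F := K) hq two_ne_zero hK
  have key : ∀ H : Subgroup (GL chevE6.Idx K), H = (E62.tw σ).fix →
      ∀ ρ : Representation ℂ ↥H (Fin k → ℂ), ρ.IsIrreducible →
        q * (q ^ 6 - q ^ 3 + 1) * (q ^ 4 + 1) ≤ k := by
    rintro _ rfl ρ hρ
    exact min_degree_fix hσ hK hq ρ hρ hk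
  exact key _ (E62.twisted_eq_fix hσ hK) ρ hρ

end CfsgLib.CharsMore.TwMinDeg
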