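import Cfsg.Agent.Lib.CharsMore.TwMinDeg.Data

/-!
# The bound for the smallest degree of twisted E6, short of two
-/

set_option autoImplicit false
set_option linter.unusedSectionVars false
set_option maxRecDepth 100000

namespace CfsgLib.CharsMore.TwMinDeg

open Cfsg.Lie CfsgLib.Chev Module
open CfsgLib.CharsMore.EMinDeg (runB suppF shiftsC run_supp run_inj Supp wimg moveC moveC_wimg
  moveC_zero notMem_of_elem T)

variable {K : Type*} [Field K] [Fintype K] {q : ℕ} {σ : K →+* K}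
  {V : Type*} [AddCommGroup V] [Module ℂ V] [FiniteDimensional ℂ V]
  {ρ : Representation ℂ ↥(E62.tw σ).fix V} {hP : Pairing (E62.tw σ) σ} {Φ : AddChar K ℂ}

lemma sq_one_fix {e : K} (he : e * e = 1) : σ e = e ∧ e ≠ 0 := by
  rcases mul_self_eq_one_iff.1 he with rfl | rfl <;> simp

/-- a move by a fixed word -/
theorem go_le {js S S' : List ℕ} {src dst : ℕ} (hg : goB js S S' src dst = true) (c : ℕ → K) :
    finrank ℂ (W ρ hP Φ S c) ≤ finrank ℂ (W ρ hP Φ S' (moveC auxE6 (word js) c)) ∧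
    (∃ e : K, σ e = e ∧ e ≠ 0 ∧ moveC auxE6 (word js) c dst = e * c src) ∧
    ∀ g ∈ S', (∀ g0 ∈ S, wimg auxE6 (word js) g0 = g → c g0 = 0) →
      moveC auxE6 (word js) c g = 0 := by
  simp only [goB, Bool.and_eq_true, List.all_eq_true, Nat.blt_eq, List.elem_iff] at hg
  obtain ⟨⟨⟨hjs, hmv⟩, himg⟩, hsrc⟩ := hg
  refine ⟨finrank_move_le hmv (prodN_fix hjs) c, ?_, ?_⟩
  all_goals
    simp only [moveB, Bool.and_eq_true, List.all_eq_true, Nat.blt_eq, List.elem_iff] at hmv
  · obtain ⟨e, he, hv⟩ := moveC_wimg (F := K) stdE6 (word js) hmv.1.1 (hmv.1.2 src hsrc)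
    refine ⟨e, (sq_one_fix (σ := σ) he).1, (sq_one_fix (σ := σ) he).2, ?_⟩
    rw [← Nat.eq_of_beq_eq_true himg, hv]
  · intro g hg hz
    obtain ⟨g0, hg0, rfl⟩ := List.mem_map.1 (hmv.2 g hg)
    exact moveC_zero stdE6 hmv.1.1 (hmv.1.2 g0 hg0) (hz g0 hg0 rfl)

/-- a move of a weight supported at one root -/
theorem go_single {js S S' : List ℕ} {src dst : ℕ} (hg : goB js S S' src dst = true) :
    ∀ s : K, σ s = s → s ≠ 0 → ∃ s', σ s' = s' ∧ s' ≠ 0 ∧
      finrank ℂ (W ρ hP Φ S (single src s')) ≤ finrank ℂ (W ρ hP Φ S' (single dst s)) := by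
  intro s hs hs0
  have himg : wimg auxE6 (word js) src = dst := by
    simp only [goB, Bool.and_eq_true] at hg
    exact Nat.eq_of_beq_eq_true hg.1.2
  obtain ⟨-, ⟨e, he, he0, hv⟩, -⟩ := go_le (ρ := ρ) (hP := hP) (Φ := Φ) hg (single src (1 : K))
  refine ⟨s / e, by rw [map_div₀, hs, he], div_ne_zero hs0 he0, ?_⟩
  obtain ⟨h1, ⟨e', he', he0', hv'⟩, h3⟩ := go_le (ρ := ρ) (hP := hP) (Φ := Φ) hg (single src (s / e))
  refine h1.trans (le_of_eq ?_)
  rw [W_congr fun g hg' => ?_]
  by_cases hgd : g = dst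
  · subst hgd
    have hee : e' = e := by
      simp only [goB, Bool.and_eq_true, List.all_eq_true, Nat.blt_eq, List.elem_iff] at hg
      obtain ⟨⟨⟨-, hmv⟩, -⟩, hsrc⟩ := hg
      simp only [moveB, Bool.and_eq_true, List.all_eq_true, Nat.blt_eq, List.elem_iff] at hmv
      obtain ⟨e2, -, hv2⟩ := moveC_wimg (F := K) stdE6 (word js) hmv.1.1 (hmv.1.2 src hsrc)
      rw [← himg, hv2, single_self, mul_one, mul_one] at hv
      rw [← himg, hv2, single_self, hv] at hv'
      exact (mul_right_cancel₀ (div_ne_zero hs0 he0) hv').symm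
    rw [hv', hee, single_self, single_self, mul_div_cancel₀ _ he0]
  · rw [single_ne _ hgd]
    exact h3 g hg' fun g0 _ e0 => single_ne _ fun e1 => hgd (by rw [← e0, e1, himg])

/-- scaling the weight supported at a root -/
theorem scale_le {S : List ℕ} (hS : ∀ g ∈ S, g < chevE6.nroots) {top : ℕ} {j : ℕ}
    (hj : j < chevE6.rank) (hp : Nat.beq (foldE62.p j) j = true)
    (hcart : Nat.beq (auxE6.cart j top).natAbs 1 = true) {s s' : K} (hs : σ s = s) (hs' : σ s' = s')
    (h0 : s ≠ 0) (h0' : s' ≠ 0) :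
    finrank ℂ (W ρ hP Φ S (single top s)) ≤ finrank ℂ (W ρ hP Φ S (single top s')) := by
  set u : Kˣ := Units.mk0 (s' / s) (div_ne_zero h0' h0)
  have hu : σ ((u ^ (-auxE6.cart j top) : Kˣ) : K) = ((u ^ (-auxE6.cart j top) : Kˣ) : K) := by
    rw [Units.val_zpow_eq_zpow_val, map_zpow₀, Units.val_mk0, map_div₀, hs, hs']
  refine (finrank_tor_le (ρ := ρ) (hP := hP) (Φ := Φ) hS (Pi.mulSingle ⟨j, hj⟩ (u ^ (-auxE6.cart j top)))
    (tor_fix (σ := σ) (j := ⟨j, hj⟩) (Nat.eq_of_beq_eq_true hp) hu) _).trans (le_of_eq ?_)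
  rw [W_congr fun g hg => ?_]
  by_cases hgt : g = top
  · subst hgt
    have hchi : chi chevE6 auxE6 (Pi.mulSingle (⟨j, hj⟩ : Fin chevE6.rank) (u ^ (-auxE6.cart j g))) g =
        u⁻¹ := by
      rw [chi, Finset.prod_eq_single (⟨j, hj⟩ : Fin chevE6.rank)]
      · simp only [Pi.mulSingle_eq_same]
        rw [← zpow_mul]
        rcases Int.natAbs_eq_iff.1 (Nat.eq_of_beq_eq_true hcart) with e | e <;> simp [e]
      · intro i _ hi
        simp [hi]
      · simp
    rw [hchi, inv_inv, Units.val_mk0, single_self, single_self, div_mul_cancel₀ _ h0]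
  · rw [single_ne _ hgt, single_ne _ hgt, mul_zero]

/-- many weights over one value at the pivot -/
theorem pivot_le {D : ChevalleyDatum} {A : Aux} {F : Type*} [Field F] [Fintype F] {h : Std D A}
    {f : Fold} {τ : Twist F h f} {η : F →+* F} {ρ : Representation ℂ ↥τ.fix V} {hP : Pairing τ η}
    {Φ : AddChar F ℂ} {q : ℕ} (hΦ : GoodChar η Φ) (hF : Fintype.card F = q ^ 2)
    (hfix : Nat.card {x : F // η x = x} = q) {S : List ℕ} {r : ℕ} {st : List (ℕ × ℕ)}
    (hb : clsB D A f [] S [] (r, st) = true) (s : F) (hs : s ≠ 0) :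
    q ^ (expand f st).length * finrank ℂ (W ρ hP Φ S (single r s)) ≤
      finrank ℂ (W ρ hP Φ [r] (single r s)) := by
  classical
  rw [Nat.card_eq_fintype_card] at hfix
  simp only [clsB, Bool.and_eq_true, decide_eq_true_eq, List.elem_iff] at hb
  obtain ⟨⟨⟨⟨⟨⟨hrS, -⟩, hact⟩, -⟩, hrun⟩, hnd⟩, -⟩ := hb
  have hblk : st.all (blkB f) = true := by
    simp only [actB, List.all_eq_true, Bool.and_eq_true] at hact ⊢
    exact fun p hp => (hact p hp).2
  let I := (j : Fin st.length) → Val η f (st.get j).1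
  let a : I → ℕ → F := fun i => asgn τ st fun j => (i j).1
  have hs' : Supp S [r] (single r s) := fun x _ hx => single_ne _ (by simpa using hx)
  have hsum := sum_le (ρ := ρ) (hP := hP) hΦ (ι := I) (S := S)
    (fun i => shiftsC D A (expand f st) (a i) (single r s)) (W ρ hP Φ [r] (single r s))
    (fun i => W_mono (fun g hg => by rw [List.mem_singleton.1 hg]; exact hrS) fun g hg => by
      rw [List.mem_singleton.1 hg]
      exact ((run_supp D A _ hrun (a i) hs').1 r (by simp)).symm)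
    fun i j hij => by
      by_contra hcon
      push Not at hcon
      have hinj := (run_inj _ hrun hs' hs' rfl (by rwa [single_self]) (fun e => absurd e (by simp)) hcon).1
      refine hij (funext fun k => Subtype.ext ?_)
      obtain ⟨p, hp, hp2⟩ := List.mem_map.1 (mem_expand (f := f) (List.get_mem _ k) hblk).1
      have h4 := hinj p hp
      rw [hp2] at h4
      simp only [a] at h4
      rwa [(asgn_spec hnd hblk _ k).1, (asgn_spec hnd hblk _ k).1] at h4
  refine le_trans ?_ ((Finset.card_nsmul_le_sum _ _ _ fun i _ =>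
    shifts_finrank hact (asgn_okA hnd hblk fun j => (i j).2) (c := single r s) (by simp)).trans hsum)
  rw [smul_eq_mul, Finset.card_univ, Fintype.card_pi, card_vals hF hfix]

lemma longR_fixed (hΦ : GoodChar σ Φ)
    (hall : ∀ τ : K, σ τ = τ → τ ≠ 0 → W ρ hP Φ [th] (single th τ) = ⊥) :
    ∀ p ∈ longR, ∀ t v, ρ (Y hP p.1 t) v = v := by
  have hm := movedB_ok
  simp only [movedB, Bool.and_eq_true, List.all_eq_true] at hm
  have htop : (⊤ : Submodule ℂ V) ≤ W ρ hP Φ [th] fun _ => (0 : K) := fun u _ g hg x => by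
    obtain rfl := List.mem_singleton.1 hg
    rw [zero_mul, AddChar.map_zero_eq_one, one_smul]
    conv_rhs => rw [← proj_sum (ρ := ρ) (hP := hP) hΦ th u]
    conv_lhs => rw [← proj_sum (ρ := ρ) (hP := hP) hΦ th u, map_sum]
    refine Finset.sum_congr rfl fun a _ => ?_
    rw [proj_weight]
    rcases eq_or_ne a 0 with rfl | ha
    · rw [zero_mul, AddChar.map_zero_eq_one, one_smul]
    · have hmem : proj ρ hP Φ th a u ∈ W ρ hP Φ [th] (single th a) := by
        intro g hg x
        obtain rfl := List.mem_singleton.1 hg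
        rw [single_self, proj_weight]
      have h0 : W ρ hP Φ [th] (single th a) = ⊥ := by
        by_cases hσa : σ a = a
        · exact hall a hσa ha
        · by_contra hne
          refine hσa ?_
          have hf : foldE62.r th = th := by decide +kernel
          simpa [single_self] using weight_single hΦ hne (show th < chevE6.nroots by decide +kernel)
            List.mem_cons_self hf
      rw [h0, Submodule.mem_bot] at hmem
      rw [hmem, smul_zero]
  intro p hp t v
  obtain ⟨h1, -, h3⟩ := go_le (ρ := ρ) (hP := hP) (Φ := Φ) (hm.1 p hp) (fun _ => (0 : K))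
  have h2 : W ρ hP Φ [p.1] (moveC auxE6 (word p.2) fun _ => (0 : K)) = ⊤ :=
    Submodule.eq_top_of_finrank_eq (le_antisymm (Submodule.finrank_le _)
      (((finrank_top ℂ V).symm.le.trans (Submodule.finrank_mono htop)).trans h1))
  exact fixed_of_zero (h2 ▸ Submodule.mem_top) List.mem_cons_self
    (h3 p.1 List.mem_cons_self fun _ _ _ => rfl) t

theorem th_moved (hΦ : GoodChar σ Φ) (hmv : ∃ r ∈ genR, ∃ t v, ρ (Y hP r t) v ≠ v) :
    ∃ τ : K, σ τ = τ ∧ τ ≠ 0 ∧ W ρ hP Φ [th] (single th τ) ≠ ⊥ := by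
  by_contra hcon
  push Not at hcon
  have hlong := longR_fixed (ρ := ρ) (hP := hP) hΦ hcon
  obtain ⟨r, hr, t, v, hne⟩ := hmv
  refine hne ?_
  have hm := movedB_ok
  simp only [movedB, Bool.and_eq_true, List.all_eq_true, Bool.or_eq_true, List.any_eq_true,
    List.elem_iff] at hm
  rcases hm.2 r hr with h1 | ⟨p, -, ⟨hpr, hc⟩, ha⟩
  · obtain ⟨p, hp, rfl⟩ := List.mem_map.1 h1
    exact hlong p hp t v
  · obtain ⟨pa, hpa, hpa1⟩ := List.mem_map.1 ha
    rw [← Nat.eq_of_beq_eq_true hpr]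
    refine comm_fixed hc (fun x s => ?_) (fun z hz s => ?_) t
    · rw [← hpa1, hlong pa hpa, hlong pa hpa]
    · obtain ⟨pz, hpz, rfl⟩ := List.mem_map.1 hz
      exact hlong pz hpz s v

lemma th_lt : ∀ g ∈ th :: A0, g < chevE6.nroots := by decide +kernel

/-- the weights on the abelian subgroup have one multiplicity -/
theorem top_weights (hΦ : GoodChar σ Φ) (hK : Fintype.card K = q ^ 2)
    (hfix : Nat.card {x : K // σ x = x} = q) (hmv : ∃ r ∈ genR, ∃ t v, ρ (Y hP r t) v ≠ v) :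
    ∃ m, 0 < m ∧
      (∀ τ : K, σ τ = τ → τ ≠ 0 → finrank ℂ (W ρ hP Φ (th :: A0) (single th τ)) = m) ∧
      (q - 1) * (q ^ 10 * m) + finrank ℂ (W ρ hP Φ [th] fun _ => (0 : K)) ≤ finrank ℂ V := by
  classical
  obtain ⟨a, haσ, ha, hne⟩ := th_moved hΦ hmv
  have hb := topB_ok
  simp only [topB, Bool.and_eq_true, Bool.not_eq_true', Nat.blt_eq] at hb
  obtain ⟨⟨⟨⟨⟨⟨⟨⟨⟨⟨hext, hcls⟩, hclr⟩, hcov⟩, hnA⟩, hcart⟩, hp1⟩, -⟩, -⟩, hthf⟩, hthn⟩ := hb
  replace hthf := Nat.eq_of_beq_eq_true hthf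
  set S := th :: A0
  have hdom : ∀ c : ℕ → K, c th ≠ 0 → W ρ hP Φ S c ≠ ⊥ →
      finrank ℂ (W ρ hP Φ S c) ≤ finrank ℂ (W ρ hP Φ S (single th (c th))) := by
    intro c hc hne
    obtain ⟨c', h1, -, h3, h4⟩ := exists_clear (ρ := ρ) hΦ hthn List.mem_cons_self hthf clrA hclr
      (c := c) (by simp) hc hne
    refine h4.trans (le_of_eq ?_)
    rw [W_congr (c' := single th (c th)) fun g hg => ?_]
    rcases List.mem_cons.1 hg with rfl | hg
    · rw [h1, single_self]
    · simp only [List.all_eq_true, List.any_eq_true, Bool.or_eq_true] at hcov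
      obtain ⟨p, hp, hpg⟩ := hcov g hg
      rw [single_ne _ (ne_of_mem_of_not_mem hg (notMem_of_elem hnA))]
      rcases hpg with e | e <;> rw [← Nat.eq_of_beq_eq_true e]
      · exact (h3 p hp).1
      · exact (h3 p hp).2
  obtain ⟨c, h1, -, h3⟩ := exists_weight hΦ A0 hext (c := single th a) (by simp) hne
  have h3' : W ρ hP Φ S c ≠ ⊥ := fun e => h3 (le_bot_iff.1 (le_of_le_of_eq (W_mono (fun g hg => by
    simp only [S, List.mem_cons] at hg
    simp only [List.mem_append, List.mem_reverse, List.mem_singleton]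
    tauto) fun _ _ => rfl) e))
  have hcth : c th = a := by rw [h1 th List.mem_cons_self, single_self]
  set m := finrank ℂ (W ρ hP Φ S (single th a))
  have hm : 0 < m := lt_of_lt_of_le (one_le_finrank h3')
    ((hdom c (by rwa [hcth]) h3').trans_eq (by rw [hcth]))
  have heq : ∀ τ : K, σ τ = τ → τ ≠ 0 → finrank ℂ (W ρ hP Φ S (single th τ)) = m := fun τ hτs hτ =>
    le_antisymm (scale_le th_lt (by decide +kernel) hp1 hcart hτs haσ hτ ha)
      (scale_le th_lt (by decide +kernel) hp1 hcart haσ hτs ha hτ)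
  refine ⟨m, hm, heq, ?_⟩
  let I := {x : {x : K // σ x = x} // x.1 ≠ 0}
  have hsum := sum_le (ρ := ρ) (hP := hP) hΦ (ι := Option I) (S := [th])
    (fun o => o.elim (fun _ => (0 : K)) fun τ => single th τ.1.1) ⊤ (fun _ => le_top)
    fun o o' hoo => ⟨th, List.mem_cons_self, by
      match o, o' with
      | none, none => exact absurd rfl hoo
      | none, some τ => simpa [single] using τ.2.symm
      | some τ, none => simpa [single] using τ.2
      | some τ, some τ' => simpa [single] using fun e => hoo (by rw [Subtype.ext (Subtype.ext e)])⟩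
  rw [finrank_top, Fintype.sum_option] at hsum
  refine le_trans ?_ hsum
  rw [add_comm]
  refine add_le_add le_rfl (le_trans (le_of_eq ?_)
    (Finset.card_nsmul_le_sum _ _ (q ^ 10 * m) fun τ _ => ?_))
  · rw [Finset.card_univ, smul_eq_mul]
    congr 1
    rw [Nat.card_eq_fintype_card] at hfix
    rw [Fintype.card_subtype_compl, hfix]
    congr 1
    exact (Fintype.card_eq_one_iff.2 ⟨⟨⟨0, map_zero σ⟩, rfl⟩,
      fun y => Subtype.ext (Subtype.ext y.2)⟩).symm
  · have := pivot_le (ρ := ρ) (hP := hP) hΦ hK hfix hcls τ.1.1 τ.2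
    rw [heq _ τ.1.2 τ.2, show (expand foldE62 clrA).length = 10 by decide +kernel] at this
    exact this

theorem sum_cls1 (q : ℕ) : orbSum foldE62 q cls1 =
    ([9, 8, 6, 5, 4, 3, 1, 0].map fun d => (q - 1) * q ^ d).sum := by
  rw [orbSum, ← show (cls1.map fun p => (expand foldE62 p.2).length) = [9, 8, 6, 5, 4, 3, 1, 0] by
    decide +kernel, List.map_map]
  rfl

/-- the bound -/
theorem degree_bound (hΦ : GoodChar σ Φ) (hK : Fintype.card K = q ^ 2)
    (hfix : Nat.card {x : K // σ x = x} = q) (hmv : ∃ r ∈ genR, ∃ t v, ρ (Y hP r t) v ≠ v) :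
    q * (q ^ 6 - q ^ 3 + 1) * (q ^ 4 + 1) ≤ finrank ℂ V + 2 := by
  classical
  have hq := E62.two_le (K := K) hK
  obtain ⟨m, hm, heq, hV⟩ := top_weights hΦ hK hfix hmv
  obtain ⟨a, rfl⟩ : ∃ a, q = a + 2 := ⟨q - 2, by omega⟩
  have h36 : (a + 2) ^ 3 ≤ (a + 2) ^ 6 := Nat.pow_le_pow_right (by omega) (by norm_num)
  have hT : (a + 2) * ((a + 2) ^ 6 - (a + 2) ^ 3 + 1) * ((a + 2) ^ 4 + 1) =
      (a + 1) * (a + 2) ^ 10 + ([9, 8, 6, 5, 4, 3, 1, 0].map fun d => (a + 1) * (a + 2) ^ d).sum +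
        ((a + 1) * (a + 2) ^ 4 + (a + 1) * (a + 2) ^ 2 + (a + 1) * (a + 2) ^ 0) + 2 := by
    zify [h36]
    simp only [List.map_cons, List.map_nil, List.sum_cons, List.sum_nil]
    push_cast
    ring
  have hle : ([9, 8, 6, 5, 4, 3, 1, 0].map fun d => (a + 1) * (a + 2) ^ d).sum ≤ (a + 2) ^ 10 := by
    simp only [List.map_cons, List.map_nil, List.sum_cons, List.sum_nil]
    ring_nf
    omega
  have hsmall : (a + 1) * (a + 2) ^ 4 + (a + 1) * (a + 2) ^ 2 + (a + 1) * (a + 2) ^ 0 + 2 ≤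
      ([9, 8, 6, 5, 4, 3, 1, 0].map fun d => (a + 1) * (a + 2) ^ d).sum := by
    simp only [List.map_cons, List.map_nil, List.sum_cons, List.sum_nil]
    ring_nf
    omega
  rw [show a + 2 - 1 = a + 1 by omega] at hV
  rcases Nat.lt_or_ge m 2 with hm1 | hm2
  swap
  · have h2 : 2 * ((a + 1) * (a + 2) ^ 10) ≤ (a + 1) * ((a + 2) ^ 10 * m) := by
      rw [mul_comm 2, mul_assoc]
      exact Nat.mul_le_mul_left _ (Nat.mul_le_mul_left _ hm2)
    have h3 : ([9, 8, 6, 5, 4, 3, 1, 0].map fun d => (a + 1) * (a + 2) ^ d).sum +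
        ((a + 1) * (a + 2) ^ 4 + (a + 1) * (a + 2) ^ 2 + (a + 1) * (a + 2) ^ 0) ≤
        (a + 1) * (a + 2) ^ 10 := by
      simp only [List.map_cons, List.map_nil, List.sum_cons, List.sum_nil]
      ring_nf
      omega
    omega
  obtain rfl : m = 1 := by omega
  rw [mul_one] at hV
  -- the line
  have hb := topB_ok
  simp only [topB, Bool.and_eq_true, Bool.not_eq_true', Nat.blt_eq] at hb
  obtain ⟨⟨⟨⟨⟨⟨⟨-, hnA⟩, -⟩, -⟩, hline⟩, hthT⟩, -⟩, -⟩ := hb
  set LT := lineT foldE62 lsteps A0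
  have hwit : ∀ τ : K, σ τ = τ → τ ≠ 0 → W ρ hP Φ (th :: LT) (single th τ) ≠ ⊥ := by
    intro τ hτs hτ
    have hdim := heq τ hτs hτ
    obtain ⟨v, hv, hv0⟩ := Submodule.exists_mem_ne_zero_of_ne_bot
      (Submodule.one_le_finrank_iff.1 hdim.ge)
    have hA : ∀ g ∈ A0, single th τ g = 0 := fun g hg =>
      single_ne _ (ne_of_mem_of_not_mem hg (notMem_of_elem hnA))
    have hfixT := line_fixed hdim.le hv0 hv lsteps hline
      (fun e he t => ⟨_, (hv e he t).symm⟩)
      (fun g hg t => fixed_of_zero hv (List.mem_cons_of_mem _ hg) (hA g hg) t)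
      (fun g _ hg => hA g hg)
    refine fun e => hv0 ?_
    rw [← Submodule.mem_bot ℂ, ← e]
    intro g hg t
    rcases List.mem_cons.1 hg with rfl | hg
    · exact hv _ List.mem_cons_self t
    · rw [hfixT g hg t, single_ne _ (ne_of_mem_of_not_mem hg (notMem_of_elem hthT)), zero_mul,
        AddChar.map_zero_eq_one, one_smul]
  have ho := orb1B_ok
  simp only [orb1B, Bool.and_eq_true, List.all_eq_true, List.elem_iff, Nat.blt_eq] at ho
  obtain ⟨⟨⟨⟨⟨⟨horb, ht1⟩, ht1f⟩, hcl⟩, hcart3⟩, hp3⟩, hS1⟩ := ho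
  replace ht1f := Nat.eq_of_beq_eq_true ht1f
  have hw1 : ∀ p ∈ cls1, ∀ s : K, σ s = s → s ≠ 0 →
      1 ≤ finrank ℂ (W ρ hP Φ S1 (single p.1 s)) := by
    intro p hp s hs hs0
    obtain ⟨p', hp', rfl⟩ := List.mem_map.1 hp
    obtain ⟨s', hs', hs0', hle'⟩ := go_single (ρ := ρ) (hP := hP) (Φ := Φ) (hcl p' hp').1 s hs hs0
    exact (one_le_finrank (hwit s' hs' hs0')).trans hle'
  have hqs : a + 2 - 1 = a + 1 := by omega
  have hO := sum_cls1 (a + 2)
  rw [hqs] at hO
  -- the extension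
  have hc := caseB_ok
  simp only [caseB, Bool.and_eq_true, List.all_eq_true, Bool.not_eq_true', List.elem_iff,
    Nat.blt_eq] at hc
  obtain ⟨⟨⟨⟨⟨⟨⟨⟨⟨⟨⟨⟨⟨⟨hU, hthU⟩, hfb⟩, hclr⟩, hfa⟩, hbU⟩, hath⟩, haU⟩, haf⟩, han⟩, hbth⟩, hA1⟩,
    hA2⟩, hB⟩, hrp⟩ := hc
  have hathne : ra ≠ th := by decide +kernel
  have hbthne : rb ≠ th := by decide +kernel
  have hext : ∀ τ : K, σ τ = τ → τ ≠ 0 → ∃ α : K, σ α = α ∧
      W ρ hP Φ (ra :: rb :: U0) (Function.update (single th τ) ra α) ≠ ⊥ := by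
    intro τ hτs hτ
    have h0 : W ρ hP Φ U0 (single th τ) ≠ ⊥ := fun e => hwit τ hτs hτ (le_bot_iff.1
      (le_of_le_of_eq (W_mono hU fun _ _ => rfl) e))
    have hz : ∀ z ∈ U0.erase th, single th τ z = 0 := fun z hz => single_ne _ fun e => by
      have hnd : U0.Nodup := by decide +kernel
      exact hnd.not_mem_erase (e ▸ hz)
    obtain ⟨β, hβ⟩ := exists_ext hΦ hfb hz h0
    have hz' : ∀ z ∈ U0.erase th, Function.update (single th τ) rb β z = 0 := fun z hz1 => by
      rw [Function.update_of_ne (fun e => notMem_of_elem hbU (List.mem_of_mem_erase (e ▸ hz1))),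
        hz z hz1]
    obtain ⟨c', g1, g2, g3, g4⟩ := exists_clear (ρ := ρ) hΦ (show th < chevE6.nroots by decide +kernel)
      (List.mem_cons_of_mem _ hthU) (show foldE62.r th = th by decide +kernel) [(cb, rb)] hclr hz'
      (by rwa [Function.update_of_ne hbthne.symm, single_self]) hβ
    have h1 : W ρ hP Φ (rb :: U0) (single th τ) ≠ ⊥ := by
      rw [← W_congr (c := c') fun g hg => ?_]
      · exact Submodule.one_le_finrank_iff.1 ((one_le_finrank hβ).trans g4)
      rcases List.mem_cons.1 hg with rfl | hg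
      · rw [(g3 _ List.mem_cons_self).1, single_ne _ hbthne]
      · by_cases e : g = th
        · subst e
          rw [g1, Function.update_of_ne hbthne.symm]
        · rw [g2 g ((List.mem_erase_of_ne e).2 hg), single_ne _ e]
    obtain ⟨α, hα⟩ := exists_ext hΦ hfa (fun z hz1 => (List.mem_cons.1 hz1).elim
      (fun e => by rw [e]; exact single_ne _ hbthne) (hz z)) h1
    refine ⟨α, ?_, hα⟩
    simpa using weight_single hΦ hα han List.mem_cons_self (Nat.eq_of_beq_eq_true haf)
  by_cases hbig : ∃ τ α : K, σ τ = τ ∧ τ ≠ 0 ∧ σ α = α ∧ α ≠ 0 ∧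
      W ρ hP Φ (ra :: rb :: U0) (Function.update (single th τ) ra α) ≠ ⊥
  · obtain ⟨τ, α, hτs, hτ, hαs, hα, hne⟩ := hbig
    set c := Function.update (single th τ) ra α
    obtain ⟨k1, ⟨e, he, he0, hv⟩, k3⟩ := go_le (ρ := ρ) (hP := hP) (Φ := Φ) hA1 c
    obtain ⟨-, ⟨e', he', he0', hv'⟩, -⟩ := go_le (ρ := ρ) (hP := hP) (Φ := Φ) hA2 c
    have hca : c ra = α := Function.update_self ..
    have hct : c th = τ := by
      show Function.update (single th τ) ra α th = τ
      rw [Function.update_of_ne hathne.symm, single_self]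
    have him : wimg auxE6 (word wA) ra = t1 ∧ wimg auxE6 (word wA) th = rp := by decide +kernel
    have hrpS : rp ∉ S1 := notMem_of_elem hrp
    rw [hca] at hv
    rw [hct] at hv'
    set s0 := e * α
    have hs0 : σ s0 = s0 ∧ s0 ≠ 0 := ⟨by rw [map_mul, he, hαs], mul_ne_zero he0 hα⟩
    obtain ⟨s', hs', hs0', hB'⟩ := go_single (ρ := ρ) (hP := hP) (Φ := Φ) hB s0 hs0.1 hs0.2
    have h2 : 2 ≤ finrank ℂ (W ρ hP Φ S1 (single t1 s0)) := by
      have hsum := sum_le (ρ := ρ) (hP := hP) hΦ (ι := Bool) (S := rp :: S1)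
        (fun b => cond b (moveC auxE6 (word wA) c) (single t1 s0)) (W ρ hP Φ S1 (single t1 s0))
        (fun b => W_mono (fun g hg => List.mem_cons_of_mem _ hg) fun g hg => by
          cases b
          · rfl
          · show single t1 s0 g = moveC auxE6 (word wA) c g
            by_cases eg : g = t1
            · rw [eg, hv, single_self]
            · rw [single_ne _ eg]
              refine (k3 g (List.mem_cons_of_mem _ hg) fun g0 _ eg0 => ?_).symm
              have hga : g0 ≠ ra := fun e1 => eg (by rw [← eg0, e1, him.1])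
              have hgt : g0 ≠ th := fun e1 => hrpS (by rw [← him.2, ← e1, eg0]; exact hg)
              show Function.update (single th τ) ra α g0 = 0
              rw [Function.update_of_ne hga, single_ne _ hgt])
        fun b b' hbb => ⟨rp, List.mem_cons_self, by
          have hrt : rp ≠ t1 := fun e1 => hrpS (e1 ▸ ht1)
          cases b <;> cases b'
          · exact absurd rfl hbb
          · show single t1 s0 rp ≠ moveC auxE6 (word wA) c rp
            rw [single_ne _ hrt, hv']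
            exact (mul_ne_zero he0' hτ).symm
          · show moveC auxE6 (word wA) c rp ≠ single t1 s0 rp
            rw [single_ne _ hrt, hv']
            exact mul_ne_zero he0' hτ
          · exact absurd rfl hbb⟩
      rw [Fintype.sum_bool] at hsum
      refine le_trans ?_ hsum
      exact Nat.add_le_add ((one_le_finrank hne).trans k1)
        ((one_le_finrank (hwit s' hs' hs0')).trans hB')
    have hw2 : ∀ p ∈ cls1, ∀ s : K, σ s = s → s ≠ 0 →
        2 ≤ finrank ℂ (W ρ hP Φ S1 (single p.1 s)) := by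
      intro p hp s hs hs0'
      obtain ⟨p', hp', rfl⟩ := List.mem_map.1 hp
      obtain ⟨s1, hs1, hs10, hle'⟩ := go_single (ρ := ρ) (hP := hP) (Φ := Φ) (hcl p' hp').2 s hs hs0'
      exact h2.trans ((scale_le hS1 (by decide +kernel) hp3 hcart3 hs0.1 hs1 hs0.2 hs10).trans hle')
    have h5 := orbit_le hΦ hK hfix horb (μ := 2) two_pos hw2
    rw [hO] at h5
    omega
  push Not at hbig
  have hw : ∀ τ : K, σ τ = τ → τ ≠ 0 → W ρ hP Φ (ra :: rb :: U0) (single th τ) ≠ ⊥ := by
    intro τ hτs hτ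
    obtain ⟨α, hαs, hα⟩ := hext τ hτs hτ
    have : α = 0 := by
      by_contra hα0
      exact hα (hbig τ α hτs hτ hαs hα0)
    subst this
    rwa [W_congr (c' := single th τ) fun g _ => ?_] at hα
    by_cases eg : g = ra
    · subst eg
      rw [Function.update_self, single_ne _ hathne]
    · rw [Function.update_of_ne eg]
  have hstage : ∀ s : Stg, stgB s = true →
      (a + 1) * (a + 2) ^ (expand foldE62 s.st).length +
        finrank ℂ (W ρ hP Φ (s.P ++ s.R) fun _ => (0 : K)) ≤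
        finrank ℂ (W ρ hP Φ s.P fun _ => (0 : K)) := by
    intro s hs
    simp only [stgB, Bool.and_eq_true] at hs
    have h5 := orbit_le (ρ := ρ) (hP := hP) hΦ hK hfix hs.1 (μ := 1) one_pos (fun p hp x hx hx0 => by
      obtain rfl := List.mem_singleton.1 hp
      obtain ⟨s', hs', hs0', hle'⟩ := go_single (ρ := ρ) (hP := hP) (Φ := Φ) hs.2 x hx hx0
      exact (one_le_finrank (hw s' hs' hs0')).trans hle')
    simpa [orbSum, hqs] using h5
  have hl := linkB_ok
  simp only [linkB, Bool.and_eq_true, List.all_eq_true, List.elem_iff] at hl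
  obtain ⟨⟨⟨-, hl1⟩, hl2⟩, hl3⟩ := hl
  have m1 : finrank ℂ (W ρ hP Φ stg2.P fun _ => (0 : K)) ≤ finrank ℂ (W ρ hP Φ S1 fun _ => (0 : K)) :=
    Submodule.finrank_mono (W_mono (fun g hg => by
      have := linkB_ok
      simp only [linkB, Bool.and_eq_true, List.all_eq_true, List.elem_iff] at this
      exact this.1.1.1 g hg) fun _ _ => rfl)
  have m2 : finrank ℂ (W ρ hP Φ stg3.P fun _ => (0 : K)) ≤
      finrank ℂ (W ρ hP Φ (stg2.P ++ stg2.R) fun _ => (0 : K)) :=
    Submodule.finrank_mono (W_mono hl2 fun _ _ => rfl)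
  have m3 : finrank ℂ (W ρ hP Φ stg4.P fun _ => (0 : K)) ≤
      finrank ℂ (W ρ hP Φ (stg3.P ++ stg3.R) fun _ => (0 : K)) :=
    Submodule.finrank_mono (W_mono hl3 fun _ _ => rfl)
  have o1 := orbit_le hΦ hK hfix horb (μ := 1) one_pos hw1
  rw [hO] at o1
  have o2 := hstage stg2 stg2_ok
  have o3 := hstage stg3 stg3_ok
  have o4 := hstage stg4 stg4_ok
  rw [show (expand foldE62 stg2.st).length = 4 by decide +kernel] at o2
  rw [show (expand foldE62 stg3.st).length = 2 by decide +kernel] at o3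
  rw [show (expand foldE62 stg4.st).length = 0 by decide +kernel] at o4
  omega

end CfsgLib.CharsMore.TwMinDeg
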