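import Cfsg.Agent.Lib.CharsMore.TwMinDeg.Orbit
import Cfsg.Agent.Lib.Chev.Twist.Fam.E6
import Cfsg.Agent.Lib.KnownA.MinDegree.Nontrivial

/-!
# The twisted group of type E6 as the domain of the weight spaces
-/

set_option autoImplicit false
set_option linter.unusedSectionVars false
set_option maxRecDepth 100000

namespace CfsgLib.CharsMore.TwMinDeg

open Cfsg.Lie CfsgLib.Chev Module
open CfsgLib.CharsMore.EMinDeg (X X_val N T)

/-- checks on the symmetry -/
noncomputable def symB : Bool :=
  (List.range chevE6.nroots).all fun r =>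
    Nat.blt (foldE62.r r) chevE6.nroots && Nat.beq (foldE62.r (foldE62.r r)) r &&
      commPair chevE6 auxE6 r (foldE62.r r) && decide (symE6.e (foldE62.r r) * symE6.e r = 1) &&
      (!Nat.beq (foldE62.r r) r || decide (symE6.e r = 1))

theorem symB_E6 : symB = true := by decide +kernel

variable {K : Type*} [Field K] [Fintype K] {q : ℕ} {σ : K →+* K}

lemma phi_eq' (r : ℕ) (t : K) : (E62.tw σ).phi r t = (symE6.e r : K) * σ t := rfl

lemma exists_half (hσ : ∀ x, σ x = x ^ q) (hK : Fintype.card K = q ^ 2) :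
    ∃ ε : K, ε + σ ε = 1 := by
  classical
  have hq := E62.two_le (K := K) hK
  by_contra hne
  push Not at hne
  have h0 : ∀ x : K, x + σ x = 0 := by
    intro x
    by_contra hx
    set s := x + σ x
    have hs : σ s = s := by
      show σ (x + σ x) = x + σ x
      rw [map_add, E62.invol hσ hK, add_comm]
    refine hne (x / s) ?_
    rw [map_div₀, hs, ← add_div, div_self hx]
  let p : Polynomial K := Polynomial.X ^ q + Polynomial.X
  have hdeg : p.natDegree ≤ q :=
    (Polynomial.natDegree_add_le _ _).trans (by simp; omega)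
  have hp0 : p ≠ 0 := fun e => by
    have := congrArg (fun r : Polynomial K => r.coeff q) e
    simp [p, Polynomial.coeff_X, show (1 : ℕ) ≠ q by omega] at this
  have hroots : (Finset.univ : Finset K).card ≤ p.natDegree :=
    Polynomial.card_le_degree_of_subset_roots fun x _ => by
      rw [Polynomial.mem_roots hp0]
      simp only [p, Polynomial.IsRoot, Polynomial.eval_add, Polynomial.eval_pow, Polynomial.eval_X]
      rw [← hσ, add_comm, h0]
  rw [Finset.card_univ, hK] at hroots
  nlinarith [hroots.trans hdeg]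

theorem pairing (hσ : ∀ x, σ x = x ^ q) (hK : Fintype.card K = q ^ 2) :
    Pairing (E62.tw σ) σ := by
  have hs := symB_E6
  simp only [symB, List.all_eq_true, List.mem_range, Bool.and_eq_true, Bool.or_eq_true,
    Bool.not_eq_true', decide_eq_true_eq, Nat.blt_eq] at hs
  refine ⟨fun r hr => (hs r hr).1.1.1.1, fun r hr => Nat.eq_of_beq_eq_true (hs r hr).1.1.1.2,
    fun r hr => (hs r hr).1.1.2, fun r hr t => ?_, fun r _ t u => ?_, fun r hr e t => ?_,
    E62.invol hσ hK, exists_half hσ hK⟩
  · rw [phi_eq', phi_eq', map_mul, map_intCast, E62.invol hσ hK, ← mul_assoc, ← Int.cast_mul,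
      (hs r hr).1.2, Int.cast_one, one_mul]
  · rw [phi_eq', phi_eq', phi_eq', map_add, mul_add]
  · rcases (hs r hr).2 with h1 | h1
    · rw [e, Nat.beq_refl] at h1
      exact absurd h1 (by simp)
    · rw [phi_eq', h1, Int.cast_one, one_mul]

lemma prodN_val (u : List ℕ) :
    ((prodN K stdE6 u : ↥(chevE6.group K)) : GL chevE6.Idx K) = nW K stdE6.good u.reverse := by
  induction u with
  | nil => simp [prodN, nW]
  | cons i u ih =>
    rw [prodN, Subgroup.coe_mul, ih, List.reverse_cons]
    simp only [nW, List.map_append, List.prod_append, List.map_cons, List.map_nil, List.prod_cons,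
      List.prod_nil, mul_one]
    rfl

/-- the word of a list of orbit letters -/
noncomputable def word (js : List ℕ) : List ℕ := (foldE62.flat js).reverse

lemma prodN_fix {js : List ℕ} (hjs : ∀ j ∈ js, j < foldE62.num) :
    (E62.tw σ).sigma (prodN K stdE6 (word js)) = prodN K stdE6 (word js) := by
  obtain ⟨_, e⟩ := ((E62.tw σ).mem_fix).1 ((E62.tw σ).nFlat_fix hjs)
  have hv : ((prodN K stdE6 (word js) : ↥(chevE6.group K)) : GL chevE6.Idx K) =
      nW K stdE6.good (foldE62.flat js) := by
    rw [prodN_val, word, List.reverse_reverse]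
  have hm : prodN K stdE6 (word js) = ⟨_, ((E62.tw σ).fix_le_group ((E62.tw σ).nFlat_fix hjs))⟩ :=
    Subtype.ext hv
  rw [hm]
  exact Subtype.ext e

lemma tor_fix {j : Fin chevE6.rank} (hj : foldE62.p j = j) {u : Kˣ} (hu : σ (u : K) = u) :
    (E62.tw σ).sigma (T stdE6 (Pi.mulSingle j u)) = T stdE6 (Pi.mulSingle j u) := by
  obtain ⟨_, e⟩ := (E62.tw σ).maps_tor (Pi.mulSingle j u)
  refine Subtype.ext (Eq.trans e (congrArg (tor chevE6 auxE6) ?_))
  rw [Finset.prod_eq_single j]
  · rw [Pi.mulSingle_eq_same]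
    congr 1
    · exact Fin.ext hj
    · exact Units.ext hu
  · intro i _ hi
    rw [Pi.mulSingle_eq_of_ne hi, map_one, Pi.mulSingle_one]
  · simp

lemma card_fixed (hσ : ∀ x, σ x = x ^ q) (hK : Fintype.card K = q ^ 2) :
    Nat.card {x : K // σ x = x} = q := by
  simp only [hσ]
  exact card_pow_fixed (k := 2) two_ne_zero (E62.two_le hK) hK

/-- the generating orbit roots -/
def genR : List ℕ := [e6p2, e6m2, e6p4, e6m4, e6p1, e6m1, e6p3, e6m3]

/-- a root of a generator is moved -/
theorem exists_moved (hσ : ∀ x, σ x = x ^ q) (hK : Fintype.card K = q ^ 2) {k : ℕ}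
    (ρ : Representation ℂ ↥(E62.tw σ).fix (Fin k → ℂ)) (hirr : ρ.IsIrreducible) (hk : 2 ≤ k) :
    ∃ r ∈ genR, ∃ t v, ρ (Y (pairing hσ hK) r t) v ≠ v := by
  set hP := pairing (K := K) hσ hK
  obtain ⟨s, ⟨r, t, hr, rfl⟩, x, hx⟩ := CfsgLib.KnownA.MinDegree.exists_moved_of_generator ρ hirr hk
    {s | ∃ r t, r ∈ genR ∧ s = Y hP r t} fun H hH => by
      refine eq_top_iff.2 fun s _ => ?_
      have hle : (E62.tw σ).fix ≤ H.map (E62.tw σ).fix.subtype := by
        conv_lhs => rw [← E62.twisted_eq_fix hσ hK]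
        rw [twistedE6, genSubgroup_eq stdE6.good, Subgroup.closure_le]
        rintro y ⟨w, hw, rfl⟩
        rcases hw with ⟨t, ht, r, hr, rfl⟩ | ⟨t, rs, hrs, rfl⟩
        · have key : ∀ r ∈ [e6p2, e6m2, e6p4, e6m4],
              r ∈ genR ∧ r < chevE6.nroots ∧ foldE62.r r = r := by decide +kernel
          obtain ⟨h1, h2, h3⟩ := key r hr
          obtain ⟨ε, hε⟩ := hP.exists_half
          refine ⟨Y hP r (ε * t), hH _ ⟨r, ε * t, h1, rfl⟩, ?_⟩
          simp only [List.map_cons, List.map_nil, List.prod_cons, List.prod_nil, mul_one,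
            Subgroup.coe_subtype]
          have h4 := congrArg Subtype.val (inc_Y hP h2 (ε * t))
          rw [h3, hP.phi_single r h2 h3, Subgroup.coe_mul, X_val, X_val, xG_add, map_mul σ,
            show σ t = t by rw [hσ]; exact ht, ← add_mul, hε, one_mul] at h4
          exact h4
        · have key : ∀ p ∈ [(e6p1, e6p6), (e6m1, e6m6), (e6p3, e6p5), (e6m3, e6m5)],
              p.1 ∈ genR ∧ p.1 < chevE6.nroots ∧ foldE62.r p.1 = p.2 ∧ symE6.e p.1 = 1 := by
            decide +kernel
          obtain ⟨h1, h2, h3, h5⟩ := key rs hrs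
          refine ⟨Y hP rs.1 t, hH _ ⟨rs.1, t, h1, rfl⟩, ?_⟩
          simp only [List.map_cons, List.map_nil, List.prod_cons, List.prod_nil, mul_one,
            Subgroup.coe_subtype]
          have h4 := congrArg Subtype.val (inc_Y hP h2 t)
          rw [h3, E62.phi_eq h5, Subgroup.coe_mul, X_val, X_val, hσ] at h4
          exact h4
      obtain ⟨y, hy, hys⟩ := hle s.2
      obtain rfl : y = s := Subtype.ext hys
      exact hy
  exact ⟨r, hr, t, x, hx⟩

end CfsgLib.CharsMore.TwMinDeg
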