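import Cfsg.Agent.Lib.CharsMore.TwMinDeg.Basic

/-!
# Independence of weights, extension of weights, Weyl and torus elements
-/

set_option autoImplicit false
set_option linter.unusedSectionVars false

namespace CfsgLib.CharsMore.TwMinDeg

open Cfsg.Lie CfsgLib.Chev CfsgLib.CharsMore.G2MinDeg Module
open CfsgLib.CharsMore.EMinDeg (addR okPair shiftC srcB X X_val N N_mul_X T T_mul_X reflC wimg moveC
  elem_of_mem notMem_of_elem shiftC_src)

variable {D : ChevalleyDatum} {A : Aux} {F : Type*} [Field F] [Fintype F] {h : Std D A} {f : Fold}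
  {τ : Twist F h f} {σ : F →+* F}

/-- a character invariant under `σ` with no multiple killing everything -/
structure GoodChar (σ : F →+* F) (Φ : AddChar F ℂ) : Prop where
  inv : ∀ x, Φ (σ x) = Φ x
  prim : Φ.IsPrimitive

lemma GoodChar.inj {Φ : AddChar F ℂ} (hΦ : GoodChar σ Φ) {a b : F}
    (h : ∀ x, Φ (a * x) = Φ (b * x)) : a = b := by
  by_contra hne
  obtain ⟨x, hx⟩ := AddChar.ne_one_iff.1 (hΦ.prim (sub_ne_zero.2 hne))
  refine hx ?_
  rw [AddChar.mulShift_apply, sub_mul, sub_eq_add_neg, AddChar.map_add_eq_mul, h,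
    ← AddChar.map_add_eq_mul, add_neg_cancel, AddChar.map_zero_eq_one]

theorem exists_goodChar (hi : ∀ x, σ (σ x) = x) {ε : F} (hε : ε + σ ε = 1) :
    ∃ Φ : AddChar F ℂ, GoodChar σ Φ := by
  obtain ⟨δ, hδ⟩ := AddChar.ne_one_iff.1 (psi_primitive (F := F) one_ne_zero)
  rw [AddChar.mulShift_apply, one_mul] at hδ
  let Φ : AddChar F ℂ :=
    { toFun := fun x => psi F (δ * (x + σ x))
      map_zero_eq_one' := by simp
      map_add_eq_mul' := fun x y => by
        rw [← AddChar.map_add_eq_mul, map_add]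
        congr 1
        ring }
  refine ⟨Φ, fun x => ?_, fun a ha => ?_⟩
  · show psi F (δ * (σ x + σ (σ x))) = psi F (δ * (x + σ x))
    rw [hi, add_comm (σ x)]
  · refine AddChar.ne_one_iff.2 ⟨a⁻¹ * ε, ?_⟩
    rw [AddChar.mulShift_apply, mul_inv_cancel_left₀ ha]
    show psi F (δ * (ε + σ ε)) ≠ 1
    rwa [hε, mul_one]

variable {V : Type*} [AddCommGroup V] [Module ℂ V]
  {ρ : Representation ℂ ↥τ.fix V} {hP : Pairing τ σ} {Φ : AddChar F ℂ}

lemma exists_sep (hΦ : GoodChar σ Φ) {a b : F} (hab : a ≠ b) : ∃ t, Φ (a * t) ≠ Φ (b * t) := by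
  by_contra hc
  push Not at hc
  exact hab (hΦ.inj hc)

theorem eq_zero_of_sum (hΦ : GoodChar σ Φ) {ι : Type*} {S : List ℕ} {c : ι → ℕ → F}
    (hsep : ∀ i j, i ≠ j → ∃ g ∈ S, c i g ≠ c j g) (s : Finset ι) :
    ∀ v : ι → V, (∀ i ∈ s, v i ∈ W ρ hP Φ S (c i)) → ∑ i ∈ s, v i = 0 → ∀ i ∈ s, v i = 0 := by
  classical
  induction s using Finset.induction_on with
  | empty => simp
  | insert j s hj ih =>
    intro v hv h0
    rw [Finset.sum_insert hj] at h0
    have hz : ∀ i ∈ s, v i = 0 := by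
      intro i hi
      obtain ⟨g, hg, hne⟩ := hsep i j fun e => hj (e ▸ hi)
      obtain ⟨t, ht⟩ := exists_sep hΦ hne
      have h1 := congrArg (ρ (Y hP g t)) h0
      rw [map_zero, map_add, map_sum, hv j (Finset.mem_insert_self j s) g hg t,
        Finset.sum_congr rfl fun l hl => hv l (Finset.mem_insert_of_mem hl) g hg t] at h1
      have h2 : ∑ l ∈ s, (Φ (c l g * t) - Φ (c j g * t)) • v l = 0 := by
        simp only [sub_smul, Finset.sum_sub_distrib]
        rw [← Finset.smul_sum, eq_neg_of_add_eq_zero_right h0, smul_neg, sub_neg_eq_add, add_comm]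
        exact h1
      have h3 := ih _ (fun l hl => Submodule.smul_mem _ _ (hv l (Finset.mem_insert_of_mem hl))) h2 i hi
      exact (smul_eq_zero.1 h3).resolve_left (sub_ne_zero.2 ht)
    intro i hi
    rcases Finset.mem_insert.1 hi with rfl | hi
    · rwa [Finset.sum_eq_zero hz, add_zero] at h0
    · exact hz i hi

lemma one_le_finrank [FiniteDimensional ℂ V] {S : List ℕ} {c : ℕ → F} (h0 : W ρ hP Φ S c ≠ ⊥) :
    1 ≤ finrank ℂ (W ρ hP Φ S c) := Submodule.one_le_finrank_iff.2 h0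

theorem sum_le [FiniteDimensional ℂ V] (hΦ : GoodChar σ Φ) {ι : Type*} [Fintype ι] {S : List ℕ}
    (c : ι → ℕ → F) (U : Submodule ℂ V)
    (hle : ∀ i, W ρ hP Φ S (c i) ≤ U) (hsep : ∀ i j, i ≠ j → ∃ g ∈ S, c i g ≠ c j g) :
    ∑ i, finrank ℂ (W ρ hP Φ S (c i)) ≤ finrank ℂ U := by
  classical
  let g : (Π i, W ρ hP Φ S (c i)) →ₗ[ℂ] U :=
    { toFun := fun v => ⟨∑ i, (v i : V), U.sum_mem fun i _ => hle i (v i).2⟩
      map_add' := fun v w => Subtype.ext (by simp [Finset.sum_add_distrib])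
      map_smul' := fun a v => Subtype.ext (by simp [Finset.smul_sum]) }
  have hg : Function.Injective g := by
    rw [injective_iff_map_eq_zero]
    intro v hv
    have h0 : ∑ i, (v i : V) = 0 := congrArg Subtype.val hv
    funext i
    exact Subtype.ext
      (eq_zero_of_sum hΦ hsep Finset.univ (fun i => (v i : V)) (fun i _ => (v i).2) h0 i (Finset.mem_univ i))
  have := LinearMap.finrank_le_finrank_of_injective hg
  rwa [Module.finrank_pi_fintype] at this

lemma finrank_le_of_maps [FiniteDimensional ℂ V] {U U' : Submodule ℂ V} (x : ↥τ.fix)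
    (hx : ∀ v ∈ U, ρ x v ∈ U') : finrank ℂ U ≤ finrank ℂ U' :=
  LinearMap.finrank_le_finrank_of_injective (f := (ρ x).restrict hx) fun u v e =>
    Subtype.ext (rho_injective (ρ := ρ) x (congrArg Subtype.val e))

/-- the projection to the weights with value `a` at `g` -/
noncomputable def proj (ρ : Representation ℂ ↥τ.fix V) (hP : Pairing τ σ) (Φ : AddChar F ℂ) (g : ℕ)
    (a : F) (v : V) : V :=
  (Fintype.card F : ℂ)⁻¹ • ∑ t, Φ (-(a * t)) • ρ (Y hP g t) v

lemma proj_sum (hΦ : GoodChar σ Φ) (g : ℕ) (v : V) : ∑ a, proj ρ hP Φ g a v = v := by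
  classical
  simp only [proj, ← Finset.smul_sum]
  rw [Finset.sum_comm, Finset.sum_eq_single (0 : F)]
  · simp only [mul_zero, neg_zero, AddChar.map_zero_eq_one, one_smul, map_one,
      Module.End.one_apply, Finset.sum_const, Finset.card_univ]
    rw [← Nat.cast_smul_eq_nsmul ℂ, smul_smul,
      inv_mul_cancel₀ (Nat.cast_ne_zero.2 Fintype.card_ne_zero), one_smul]
  · intro t _ ht
    rw [← Finset.sum_smul]
    have : ∑ a : F, Φ (-(a * t)) = 0 := by
      have h2 := AddChar.sum_mulShift (-t) hΦ.prim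
      rw [if_neg (neg_ne_zero.2 ht)] at h2
      simpa [mul_neg] using h2
    rw [this, zero_smul]
  · simp

lemma proj_weight (g : ℕ) (a : F) (v : V) (s : F) :
    ρ (Y hP g s) (proj ρ hP Φ g a v) = Φ (a * s) • proj ρ hP Φ g a v := by
  simp only [proj, map_smul, map_sum, Finset.smul_sum]
  refine Fintype.sum_equiv (Equiv.addLeft s) _ _ fun t => ?_
  rw [Equiv.coe_addLeft, ← rho_mul, ← AddChar.map_add_eq_mul, smul_comm (Φ (a * s)), smul_smul
    (Φ (a * s)), ← AddChar.map_add_eq_mul]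
  congr 3
  ring

/-- the coordinates unchanged by a list of steps -/
noncomputable def keepL (A : Aux) (Z : List ℕ) : List ℕ → List ℕ → Bool
  | [], _ => true
  | b :: es, K => Z.all (srcB A Z b) && K.all (srcB A Z b) && keepL A Z es K

lemma keepL_spec {Z : List ℕ} : ∀ (es : List (ℕ × F)) {K : List ℕ},
    keepL A Z (es.map Prod.fst) K = true → ∀ {c : ℕ → F}, (∀ z ∈ Z, c z = 0) →
    (∀ z ∈ Z, shiftL D A es c z = 0) ∧ ∀ g ∈ K, shiftL D A es c g = c g
  | [], _, _, _, hc => ⟨hc, fun _ _ => rfl⟩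
  | (b, a) :: es, K, hk, c, hc => by
    simp only [List.map_cons, keepL, Bool.and_eq_true, List.all_eq_true] at hk
    obtain ⟨⟨h1, h2⟩, h3⟩ := hk
    have hz : ∀ z ∈ Z, shiftC D A b a c z = 0 := fun z hz' => by
      rw [shiftC_src (h1 z hz') hc, hc z hz']
    obtain ⟨g1, g2⟩ := keepL_spec es h3 hz
    exact ⟨g1, fun g hg => by rw [shiftL, g2 g hg, shiftC_src (h2 g hg) hc]⟩

/-- `Y g` keeps the weights of `S` vanishing on `Z` -/
noncomputable def fixB (D : ChevalleyDatum) (A : Aux) (f : Fold) (g : ℕ) (S Z : List ℕ) : Bool :=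
  normB D A f g S S Z && !S.elem g && keepL A Z (steps f g) S

lemma proj_mem {g : ℕ} {S Z : List ℕ} (hb : fixB D A f g S Z = true) {c : ℕ → F}
    (hc : ∀ z ∈ Z, c z = 0) (a : F) {v : V} (hv : v ∈ W ρ hP Φ S c) :
    proj ρ hP Φ g a v ∈ W ρ hP Φ (g :: S) (Function.update c g a) := by
  simp only [fixB, Bool.and_eq_true, Bool.not_eq_true'] at hb
  obtain ⟨⟨hn, hgS⟩, hk⟩ := hb
  have hg : g ∉ S := notMem_of_elem hgS
  intro s hs t
  rcases List.mem_cons.1 hs with rfl | hs
  · rw [Function.update_self, proj_weight]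
  · rw [Function.update_of_ne (ne_of_mem_of_not_mem hs hg)]
    have hmem : proj ρ hP Φ g a v ∈ W ρ hP Φ S c := by
      refine Submodule.smul_mem _ _ (Submodule.sum_mem _ fun u _ => Submodule.smul_mem _ _ ?_)
      have h1 := Y_mem hn hc hv u
      rwa [W_congr fun s hs => (keepL_spec (D := D) (stepsP τ g u) (by rw [stepsP_fst]; exact hk)
        hc).2 s hs] at h1
    exact hmem s hs t

theorem exists_ext (hΦ : GoodChar σ Φ) {g : ℕ} {S Z : List ℕ} (hb : fixB D A f g S Z = true)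
    {c : ℕ → F} (hc : ∀ z ∈ Z, c z = 0) (hne : W ρ hP Φ S c ≠ ⊥) :
    ∃ a, W ρ hP Φ (g :: S) (Function.update c g a) ≠ ⊥ := by
  obtain ⟨v, hv, hv0⟩ := Submodule.exists_mem_ne_zero_of_ne_bot hne
  by_contra hcon
  push Not at hcon
  refine hv0 ?_
  rw [← proj_sum (ρ := ρ) (hP := hP) hΦ g v]
  exact Finset.sum_eq_zero fun a _ => by
    have := proj_mem hb hc a hv
    rwa [hcon a, Submodule.mem_bot] at this

/-- the roots of `R` can be added one after another -/
noncomputable def extB (D : ChevalleyDatum) (A : Aux) (f : Fold) : List ℕ → List ℕ → List ℕ → Bool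
  | [], _, _ => true
  | g :: R, S, Z => fixB D A f g S Z && !Z.elem g && extB D A f R (g :: S) Z

theorem exists_weight (hΦ : GoodChar σ Φ) : ∀ (R : List ℕ) {S Z : List ℕ},
    extB D A f R S Z = true → ∀ {c : ℕ → F}, (∀ z ∈ Z, c z = 0) → W ρ hP Φ S c ≠ ⊥ →
    ∃ c', (∀ g ∈ S, c' g = c g) ∧ (∀ z ∈ Z, c' z = 0) ∧ W ρ hP Φ (R.reverse ++ S) c' ≠ ⊥
  | [], S, Z, _, c, hc, hne => ⟨c, fun _ _ => rfl, hc, by simpa using hne⟩
  | g :: R, S, Z, hb, c, hc, hne => by
    simp only [extB, Bool.and_eq_true, Bool.not_eq_true'] at hb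
    obtain ⟨⟨hb1, hgZ⟩, hb2⟩ := hb
    obtain ⟨a, ha⟩ := exists_ext hΦ hb1 hc hne
    simp only [fixB, Bool.and_eq_true, Bool.not_eq_true'] at hb1
    have hgS := notMem_of_elem hb1.1.2
    have hgZ' := notMem_of_elem hgZ
    obtain ⟨c', h1, h2, h3⟩ := exists_weight hΦ R hb2 (c := Function.update c g a)
      (fun z hz => by rw [Function.update_of_ne (ne_of_mem_of_not_mem hz hgZ'), hc z hz]) ha
    refine ⟨c', fun s hs => ?_, h2, ?_⟩
    · rw [h1 s (List.mem_cons_of_mem _ hs), Function.update_of_ne (ne_of_mem_of_not_mem hs hgS)]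
    · rwa [List.reverse_cons, List.append_assoc, List.singleton_append]

/-- the weights agree on a pair of roots -/
lemma weight_pair (hΦ : GoodChar σ Φ) {S : List ℕ} {c : ℕ → F} (hne : W ρ hP Φ S c ≠ ⊥) {g : ℕ}
    (hg : g < D.nroots) (h1 : g ∈ S) (h2 : f.r g ∈ S) :
    ∀ t, Φ (c g * t) = Φ (c (f.r g) * τ.phi g t) := by
  intro t
  obtain ⟨v, hv, hv0⟩ := Submodule.exists_mem_ne_zero_of_ne_bot hne
  have e : Y hP g t = Y hP (f.r g) (τ.phi g t) := inc_injective τ (by
    rw [inc_Y hP hg, inc_Y hP (hP.r_lt g hg), hP.r_r g hg, hP.phi_phi g hg]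
    exact (X_commute (hP.comm g hg) t _).eq)
  have h3 := hv g h1 t
  rw [e, hv _ h2] at h3
  exact (smul_left_injective ℂ hv0 h3).symm

lemma weight_single (hΦ : GoodChar σ Φ) {S : List ℕ} {c : ℕ → F} (hne : W ρ hP Φ S c ≠ ⊥) {g : ℕ}
    (hg : g < D.nroots) (h1 : g ∈ S) (hf : f.r g = g) : σ (c g) = c g := by
  refine (hΦ.inj fun t => ?_).symm
  rw [weight_pair hΦ hne hg h1 (by rwa [hf]) t, hf, hP.phi_single g hg hf, ← hΦ.inv,
    map_mul, hP.invol]

lemma weight_zero (hΦ : GoodChar σ Φ) {S : List ℕ} {c : ℕ → F} (hne : W ρ hP Φ S c ≠ ⊥) {g : ℕ}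
    (hg : g < D.nroots) (h1 : g ∈ S) (h2 : f.r g ∈ S) (hc : c g = 0) : c (f.r g) = 0 := by
  refine hΦ.inj fun u => ?_
  have h3 := weight_pair hΦ hne hg h1 h2 (τ.phi (f.r g) u)
  have h4 := hP.phi_phi (f.r g) (hP.r_lt g hg) u
  rw [hP.r_r g hg] at h4
  rw [h4, hc, zero_mul] at h3
  rw [zero_mul, ← h3]

/-- the element of a word of fundamental reflections -/
noncomputable def prodN (F : Type*) [Field F] (h : Std D A) : List ℕ → ↥(D.group F)
  | [] => 1
  | i :: u => prodN F h u * N F h i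

lemma X_mul_prodN : ∀ (u : List ℕ), (∀ i ∈ u, i < D.rank) → ∀ {g : ℕ}, g < D.nroots →
    wimg A u g < D.nroots ∧ ∃ e : F, (∀ t, X h (wimg A u g) t * prodN F h u = prodN F h u * X h g (e * t)) ∧
      ∀ c : ℕ → F, moveC A u c (wimg A u g) = e * c g
  | [], _, g, hg => ⟨hg, 1, fun t => by simp [prodN, wimg], fun c => by simp [moveC, wimg]⟩
  | i :: u, hu, g, hg => by
    have hi := hu i List.mem_cons_self
    have hg' := h.good.refl_lt i hi g hg
    obtain ⟨hlt, e, he, hv⟩ := X_mul_prodN u (fun j hj => hu j (List.mem_cons_of_mem _ hj)) hg'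
    refine ⟨hlt, e * (A.eta i g : F), fun t => ?_, fun c => ?_⟩
    · show X h (wimg A u (A.refl i g)) t * (prodN F h u * N F h i) = prodN F h u * N F h i * X h g _
      rw [← mul_assoc, he, mul_assoc, mul_assoc, N_mul_X hi hg]
      congr 3
      have h2 := eta_sq (F := F) h.good hi hg
      linear_combination (-e * t) * h2
    · show moveC A u (reflC A i c) (wimg A u (A.refl i g)) = _
      rw [hv, reflC, h.good.refl_refl i hi g hg, mul_assoc]

/-- moving a weight by a fixed Weyl word -/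
noncomputable def moveB (D : ChevalleyDatum) (A : Aux) (u S S' : List ℕ) : Bool :=
  u.all (fun i => Nat.blt i D.rank) && S.all (fun g => Nat.blt g D.nroots) &&
    S'.all fun g => (S.map (wimg A u)).elem g

theorem finrank_move_le [FiniteDimensional ℂ V] {u S S' : List ℕ} (hu : moveB D A u S S' = true)
    (hn : τ.sigma (prodN F h u) = prodN F h u) (c : ℕ → F) :
    finrank ℂ (W ρ hP Φ S c) ≤ finrank ℂ (W ρ hP Φ S' (moveC A u c)) := by
  simp only [moveB, Bool.and_eq_true, List.all_eq_true, Nat.blt_eq, List.elem_iff] at hu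
  obtain ⟨⟨hr, hS⟩, hS'⟩ := hu
  set n := felt τ (prodN F h u) hn
  refine finrank_le_of_maps (ρ := ρ) n fun v hv g hg t => ?_
  obtain ⟨g0, hg0, rfl⟩ := List.mem_map.1 (hS' g hg)
  obtain ⟨hlt, e, he, hm⟩ := X_mul_prodN (F := F) (h := h) u hr (hS g0 hg0)
  have key : Y hP (wimg A u g0) t * n = n * Y hP g0 (e * t) := inc_injective τ (by
    rw [map_mul, map_mul, inc_Y_sigma hP hlt, inc_Y_sigma hP (hS g0 hg0), inc_felt,
      mul_assoc (X h (wimg A u g0) t)]
    conv_lhs => rw [← hn, ← map_mul, he, map_mul, hn, ← mul_assoc, he, mul_assoc])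
  rw [← rho_mul, key, rho_mul, hv g0 hg0, map_smul, hm]
  congr 2
  ring

theorem finrank_tor_le [FiniteDimensional ℂ V] {S : List ℕ} (hS : ∀ g ∈ S, g < D.nroots)
    (d : Fin D.rank → Fˣ) (hd : τ.sigma (T h d) = T h d) (c : ℕ → F) :
    finrank ℂ (W ρ hP Φ S c) ≤
      finrank ℂ (W ρ hP Φ S fun g => ((chi D A d g)⁻¹ : Fˣ) * c g) := by
  set n := felt τ (T h d) hd
  refine finrank_le_of_maps (ρ := ρ) n fun v hv g hg t => ?_
  have he : X h g t * T h d = T h d * X h g (((chi D A d g)⁻¹ : Fˣ) * t) := by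
    rw [T_mul_X d (hS g hg), ← mul_assoc, Units.mul_inv, one_mul]
  have key : Y hP g t * n = n * Y hP g (((chi D A d g)⁻¹ : Fˣ) * t) := inc_injective τ (by
    rw [map_mul, map_mul, inc_Y_sigma hP (hS g hg), inc_Y_sigma hP (hS g hg), inc_felt,
      mul_assoc (X h g t)]
    conv_lhs => rw [← hd, ← map_mul, he, map_mul, hd, ← mul_assoc, he, mul_assoc])
  rw [← rho_mul, key, rho_mul, hv g hg, map_smul]
  congr 2
  ring

end CfsgLib.CharsMore.TwMinDeg
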