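import Cfsg.Agent.Lib.CharsMore.TwMinDeg.Indep
import Cfsg.Agent.Lib.CharsMore.EMinDeg.Run

/-!
# Orbits of weights under shifts, and clearing of coordinates
-/

set_option autoImplicit false
set_option linter.unusedSectionVars false

namespace CfsgLib.CharsMore.TwMinDeg

open Cfsg.Lie CfsgLib.Chev CfsgLib.CharsMore.G2MinDeg Module
open CfsgLib.CharsMore.EMinDeg (addR okPair shiftC srcB hitB runB suppF shiftsC Supp run_supp run_inj
  shift_hit shiftC_src elem_of_mem notMem_of_elem)

variable {D : ChevalleyDatum} {A : Aux} {F : Type*} [Field F] [Fintype F] {h : Std D A} {f : Fold}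
  {τ : Twist F h f} {σ : F →+* F}
  {V : Type*} [AddCommGroup V] [Module ℂ V] [FiniteDimensional ℂ V]
  {ρ : Representation ℂ ↥τ.fix V} {hP : Pairing τ σ} {Φ : AddChar F ℂ}

/-- the weight supported at `g` -/
def single (g : ℕ) {F : Type*} [Field F] (s : F) : ℕ → F := fun x => if x = g then s else 0

lemma single_self (g : ℕ) {F : Type*} [Field F] (s : F) : single g s g = s := if_pos rfl

lemma single_ne {g x : ℕ} {F : Type*} [Field F] (s : F) (hx : x ≠ g) : single g s x = 0 := if_neg hx

/-- the steps of a list of blocks -/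
noncomputable def expand (f : Fold) : List (ℕ × ℕ) → List (ℕ × ℕ)
  | [] => []
  | (b, t) :: st =>
    if Nat.beq (f.r b) b then (b, t) :: expand f st else (f.r b, f.r t) :: (b, t) :: expand f st

/-- the targets of a block match it -/
noncomputable def blkB (f : Fold) (p : ℕ × ℕ) : Bool :=
  if Nat.beq (f.r p.1) p.1 then Nat.beq (f.r p.2) p.2 else !Nat.beq (f.r p.2) p.2

/-- the blocks act on the weights of `S` -/
noncomputable def actB (D : ChevalleyDatum) (A : Aux) (f : Fold) (S Z : List ℕ) (st : List (ℕ × ℕ)) :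
    Bool :=
  st.all fun p => normB D A f p.1 S S Z && keepL A Z (steps f p.1) [] && blkB f p

/-- admissible parameters for the blocks -/
def OkA (τ : Twist F h f) (σ : F →+* F) (st : List (ℕ × ℕ)) (a : ℕ → F) : Prop :=
  ∀ p ∈ st, (f.r p.1 = p.1 → σ (a p.2) = a p.2) ∧ (f.r p.1 ≠ p.1 → a (f.r p.2) = τ.phi p.1 (a p.2))

theorem shifts_finrank {S Z : List ℕ} : ∀ {st : List (ℕ × ℕ)}, actB D A f S Z st = true →
    ∀ {a : ℕ → F}, OkA τ σ st a → ∀ {c : ℕ → F}, (∀ z ∈ Z, c z = 0) →
    finrank ℂ (W ρ hP Φ S c) ≤ finrank ℂ (W ρ hP Φ S (shiftsC D A (expand f st) a c))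
  | [], _, _, _, _, _ => le_rfl
  | (b, t) :: st, hb, a, ha, c, hc => by
    simp only [actB, List.all_cons, Bool.and_eq_true] at hb
    obtain ⟨⟨⟨hn, hk⟩, -⟩, hrest⟩ := hb
    have hbn : b < D.nroots := by
      simp only [normB, Bool.and_eq_true, Nat.blt_eq] at hn
      exact hn.1.1
    obtain ⟨ha1, ha2⟩ := ha (b, t) List.mem_cons_self
    obtain ⟨ε, hε⟩ := hP.exists_half
    have key : ∃ x, shiftsC D A (expand f ((b, t) :: st)) a c =
        shiftsC D A (expand f st) a (shiftL D A (stepsP τ b x) c) := by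
      simp only [expand, stepsP]
      rcases hfb : Nat.beq (f.r b) b
      · refine ⟨a t, ?_⟩
        simp only [Bool.false_eq_true, if_false, shiftL, shiftsC]
        rw [ha2 fun e => by rw [e, Nat.beq_refl] at hfb; exact Bool.false_ne_true hfb.symm]
      · have e := Nat.eq_of_beq_eq_true hfb
        refine ⟨ε * a t, ?_⟩
        simp only [if_true, shiftL, shiftsC]
        rw [hP.phi_single b hbn e, map_mul, ha1 e, ← add_mul, hε, one_mul]
    obtain ⟨x, hx⟩ := key
    rw [hx]
    refine (finrank_le_of_maps (ρ := ρ) (Y hP b x) fun v hv => Y_mem hn hc hv x).trans ?_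
    refine shifts_finrank (by simpa [actB] using hrest) (fun p hp => ha p (List.mem_cons_of_mem _ hp)) ?_
    exact (keepL_spec (D := D) (stepsP τ b x) (by rw [stepsP_fst]; exact hk) hc).1

/-- parameters as a function of the targets -/
noncomputable def asgn (τ : Twist F h f) : (st : List (ℕ × ℕ)) → (Fin st.length → F) → ℕ → F
  | [], _, _ => 0
  | (b, t) :: st, v, g =>
    if g = t then v ⟨0, Nat.succ_pos _⟩ else if g = f.r t then τ.phi b (v ⟨0, Nat.succ_pos _⟩)
      else asgn τ st (fun i => v i.succ) g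

lemma mem_expand : ∀ {st : List (ℕ × ℕ)} {p : ℕ × ℕ}, p ∈ st → st.all (blkB f) = true →
    p.2 ∈ (expand f st).map Prod.snd ∧ f.r p.2 ∈ (expand f st).map Prod.snd
  | (b, t) :: st, p, hp, hb => by
    simp only [List.all_cons, Bool.and_eq_true, blkB] at hb
    rcases List.mem_cons.1 hp with rfl | hp
    · simp only [expand]
      rcases hfb : Nat.beq (f.r b) b
      · simp
      · simp only [hfb, if_true] at hb
        simp [Nat.eq_of_beq_eq_true hb.1]
    · have := mem_expand hp (by simpa [blkB] using hb.2)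
      simp only [expand]
      split <;> simp only [List.map_cons, List.mem_cons] <;> tauto

lemma asgn_spec : ∀ {st : List (ℕ × ℕ)}, ((expand f st).map Prod.snd).Nodup →
    st.all (blkB f) = true → ∀ (v : Fin st.length → F) (i : Fin st.length),
    asgn τ st v (st.get i).2 = v i ∧
      (f.r (st.get i).1 ≠ (st.get i).1 → asgn τ st v (f.r (st.get i).2) = τ.phi (st.get i).1 (v i))
  | (b, t) :: st, hn, hb, v, i => by
    have hb' := hb
    simp only [List.all_cons, Bool.and_eq_true, blkB] at hb
    refine Fin.cases ?_ (fun j => ?_) i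
    · refine ⟨if_pos rfl, fun hne => ?_⟩
      change f.r b ≠ b at hne
      have hfb : Nat.beq (f.r b) b = false :=
        Bool.eq_false_iff.2 fun e => hne (Nat.eq_of_beq_eq_true e)
      simp only [hfb, Bool.false_eq_true, if_false, Bool.not_eq_true'] at hb
      have ht : f.r t ≠ t := fun e => by
        rw [e, Nat.beq_refl] at hb
        exact Bool.false_ne_true hb.1.symm
      show asgn τ ((b, t) :: st) v (f.r t) = _
      rw [asgn, if_neg ht, if_pos rfl]
      rfl
    · have hb2 : st.all (blkB f) = true := by simpa [blkB] using hb.2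
      have hn2 : ((expand f st).map Prod.snd).Nodup := by
        simp only [expand] at hn
        split at hn <;> simp only [List.map_cons, List.nodup_cons] at hn <;> tauto
      obtain ⟨m1, m2⟩ := mem_expand (f := f) (List.get_mem st j) hb2
      obtain ⟨s1, s2⟩ := asgn_spec hn2 hb2 (fun i => v i.succ) j
      have hsep : ∀ g ∈ (expand f st).map Prod.snd, g ≠ t ∧ g ≠ f.r t := fun g hg => by
        simp only [expand] at hn
        rcases hfb : Nat.beq (f.r b) b
        · simp only [hfb, Bool.false_eq_true, if_false, List.map_cons, List.nodup_cons,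
            List.mem_cons, not_or] at hn
          exact ⟨fun e => hn.2.1 (e ▸ hg), fun e => hn.1.2 (e ▸ hg)⟩
        · simp only [hfb, if_true] at hb hn
          simp only [List.map_cons, List.nodup_cons] at hn
          rw [Nat.eq_of_beq_eq_true hb.1]
          exact ⟨fun e => hn.1 (e ▸ hg), fun e => hn.1 (e ▸ hg)⟩
      simp only [List.get_cons_succ']
      refine ⟨?_, fun hne => ?_⟩
      · rw [asgn, if_neg (hsep _ m1).1, if_neg (hsep _ m1).2, s1]
      · rw [asgn, if_neg (hsep _ m2).1, if_neg (hsep _ m2).2, s2 hne]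

lemma asgn_okA {st : List (ℕ × ℕ)} (hn : ((expand f st).map Prod.snd).Nodup)
    (hb : st.all (blkB f) = true) {v : Fin st.length → F}
    (hv : ∀ i, f.r (st.get i).1 = (st.get i).1 → σ (v i) = v i) : OkA τ σ st (asgn τ st v) := by
  intro p hp
  obtain ⟨i, rfl⟩ := List.get_of_mem hp
  obtain ⟨h1, h2⟩ := asgn_spec (τ := τ) hn hb v i
  rw [h1]
  exact ⟨hv i, h2⟩

/-- the values allowed for a block -/
abbrev Val (σ : F →+* F) (f : Fold) (b : ℕ) : Type _ := {x : F // f.r b = b → σ x = x}

lemma card_vals [DecidableEq F] {q : ℕ} (hF : Fintype.card F = q ^ 2)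
    (hfix : Fintype.card {x : F // σ x = x} = q) : ∀ (st : List (ℕ × ℕ)),
    ∏ i : Fin st.length, Fintype.card (Val σ f (st.get i).1) = q ^ (expand f st).length
  | [] => by simp [expand]
  | (b, t) :: st => by
    show ∏ i : Fin (st.length + 1), _ = _
    rw [Fin.prod_univ_succ]
    simp only [List.get_cons_succ', card_vals hF hfix st, expand]
    rcases hfb : Nat.beq (f.r b) b
    · have hne : f.r b ≠ b := fun e => by rw [e, Nat.beq_refl] at hfb; exact Bool.false_ne_true hfb.symm
      have : Fintype.card (Val σ f b) = q ^ 2 := by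
        rw [← hF]
        exact Fintype.card_congr (Equiv.subtypeUnivEquiv fun x e => absurd e hne)
      show Fintype.card (Val σ f b) * _ = _
      rw [this, if_neg Bool.false_ne_true, List.length_cons, List.length_cons, ← pow_add]
      congr 1
      omega
    · have : Fintype.card (Val σ f b) = q := by
        refine Eq.trans (Fintype.card_congr (Equiv.subtypeEquivRight fun x => ?_)) hfix
        simp [Nat.eq_of_beq_eq_true hfb]
      show Fintype.card (Val σ f b) * _ = _
      rw [this, if_pos rfl, List.length_cons, pow_succ']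

/-- the conditions for a class of an orbit -/
noncomputable def clsB (D : ChevalleyDatum) (A : Aux) (f : Fold) (P S Z : List ℕ)
    (p : ℕ × List (ℕ × ℕ)) : Bool :=
  S.elem p.1 && Nat.beq (f.r p.1) p.1 && actB D A f S Z p.2 && !Z.elem p.1 &&
    runB D A true S p.1 (expand f p.2) [p.1] [p.1] &&
    decide ((expand f p.2).map Prod.snd).Nodup &&
    P.all fun z => S.elem z && !(suppF A S (expand f p.2) [p.1]).elem z

/-- classes are separated -/
noncomputable def sepB (A : Aux) (f : Fold) (S : List ℕ) (cls : List (ℕ × List (ℕ × ℕ))) : Bool :=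
  (List.range cls.length).all fun i => (List.range cls.length).all fun j => Nat.beq i j ||
    (!(suppF A S (expand f (cls.getD i (0, [])).2) [(cls.getD i (0, [])).1]).elem (cls.getD j (0, [])).1 ||
     !(suppF A S (expand f (cls.getD j (0, [])).2) [(cls.getD j (0, [])).1]).elem (cls.getD i (0, [])).1)

/-- the conditions for an orbit -/
noncomputable def orbB (D : ChevalleyDatum) (A : Aux) (f : Fold) (P S Z : List ℕ)
    (cls : List (ℕ × List (ℕ × ℕ))) : Bool :=
  cls.all (clsB D A f P S Z) && sepB A f S cls && P.all (fun z => S.elem z)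

/-- the number of weights of an orbit -/
noncomputable def orbSum (f : Fold) (q : ℕ) (cls : List (ℕ × List (ℕ × ℕ))) : ℕ :=
  (cls.map fun p => (q - 1) * q ^ (expand f p.2).length).sum

theorem orbit_le {q : ℕ} (hΦ : GoodChar σ Φ) (hF : Fintype.card F = q ^ 2)
    (hfix : Nat.card {x : F // σ x = x} = q) {P S Z : List ℕ} {cls : List (ℕ × List (ℕ × ℕ))}
    (hb : orbB D A f P S Z cls = true) {μ : ℕ} (hμ : 0 < μ)
    (hw : ∀ p ∈ cls, ∀ s : F, σ s = s → s ≠ 0 → μ ≤ finrank ℂ (W ρ hP Φ S (single p.1 s))) :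
    μ * orbSum f q cls + finrank ℂ (W ρ hP Φ S fun _ => (0 : F)) ≤
      finrank ℂ (W ρ hP Φ P fun _ => (0 : F)) := by
  classical
  rw [Nat.card_eq_fintype_card] at hfix
  simp only [orbB, Bool.and_eq_true, List.all_eq_true] at hb
  obtain ⟨⟨hcls, hsep⟩, hPS⟩ := hb
  have hdat : ∀ i : Fin cls.length, (cls.get i).1 ∈ S ∧ f.r (cls.get i).1 = (cls.get i).1 ∧
      actB D A f S Z (cls.get i).2 = true ∧ (cls.get i).1 ∉ Z ∧
      runB D A true S (cls.get i).1 (expand f (cls.get i).2) [(cls.get i).1] [(cls.get i).1] = true ∧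
      ((expand f (cls.get i).2).map Prod.snd).Nodup ∧
      (∀ z ∈ P, z ∉ suppF A S (expand f (cls.get i).2) [(cls.get i).1]) ∧
      (cls.get i).2.all (blkB f) = true := by
    intro i
    have hp := hcls _ (List.get_mem cls i)
    simp only [clsB, Bool.and_eq_true, decide_eq_true_eq, List.all_eq_true, List.elem_iff,
      Bool.not_eq_true'] at hp
    obtain ⟨⟨⟨⟨⟨⟨h1, h2⟩, h3⟩, h4⟩, h5⟩, h6⟩, h7⟩ := hp
    refine ⟨h1, Nat.eq_of_beq_eq_true h2, h3, notMem_of_elem h4, h5, h6,
      fun z hz => notMem_of_elem (h7 z hz).2, ?_⟩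
    simp only [actB, List.all_eq_true, Bool.and_eq_true] at h3 ⊢
    exact fun p hp => (h3 p hp).2
  let I := Σ i : Fin cls.length, {s : {x : F // σ x = x} // s.1 ≠ 0} ×
    ((j : Fin (cls.get i).2.length) → Val σ f ((cls.get i).2.get j).1)
  let a : (i : I) → ℕ → F := fun i => asgn τ (cls.get i.1).2 fun j => (i.2.2 j).1
  let g : Option I → ℕ → F := fun o => o.elim (fun _ => 0) fun i =>
    shiftsC D A (expand f (cls.get i.1).2) (a i) (single (cls.get i.1).1 i.2.1.1.1)
  have hsu : ∀ i : I, Supp S [(cls.get i.1).1] (single (cls.get i.1).1 i.2.1.1.1) :=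
    fun i x _ hx => single_ne _ (by simpa using hx)
  have hrs : ∀ i : I, g (some i) (cls.get i.1).1 = i.2.1.1.1 ∧
      Supp S (suppF A S (expand f (cls.get i.1).2) [(cls.get i.1).1]) (g (some i)) := by
    intro i
    obtain ⟨h1, h2⟩ := run_supp D A _ (hdat i.1).2.2.2.2.1 (a i) (hsu i)
    exact ⟨(h1 _ (by simp)).trans (single_self _ _), h2⟩
  have hle : ∀ o, W ρ hP Φ S (g o) ≤ W ρ hP Φ P fun _ => (0 : F) := fun o =>
    W_mono (fun x hx => List.elem_iff.1 (hPS x hx)) fun x hx => by
      cases o with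
      | none => rfl
      | some i =>
        exact ((hrs i).2 x (List.elem_iff.1 (hPS x hx)) ((hdat i.1).2.2.2.2.2.2.1 x hx)).symm
  have hsum := sum_le (ρ := ρ) (hP := hP) hΦ (ι := Option I) (S := S) g _ hle fun o o' hoo => by
    match o, o' with
    | none, none => exact absurd rfl hoo
    | none, some i => exact ⟨_, (hdat i.1).1, by rw [(hrs i).1]; exact i.2.1.2.symm⟩
    | some i, none => exact ⟨_, (hdat i.1).1, by rw [(hrs i).1]; exact i.2.1.2⟩
    | some ⟨i, s, v⟩, some ⟨j, s', v'⟩ =>
      by_cases hij : i = j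
      · subst hij
        by_contra hcon
        push Not at hcon
        have hs : s = s' := Subtype.ext (Subtype.ext (by
          have h3 := hcon _ (hdat i).1
          rwa [(hrs ⟨i, s, v⟩).1, (hrs ⟨i, s', v'⟩).1] at h3))
        subst hs
        have hinj := (run_inj _ (hdat i).2.2.2.2.1 (hsu ⟨i, s, v⟩) (hsu ⟨i, s, v'⟩) rfl
          (by rw [single_self]; exact s.2) (fun e => absurd e (by simp)) hcon).1
        refine hoo ?_
        congr 3
        funext k
        refine Subtype.ext ?_
        have hm := (mem_expand (f := f) (List.get_mem _ k) (hdat i).2.2.2.2.2.2.2).1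
        obtain ⟨p, hp, hp2⟩ := List.mem_map.1 hm
        have h4 := hinj p hp
        rw [hp2] at h4
        simp only [a] at h4
        rwa [(asgn_spec (hdat i).2.2.2.2.2.1 (hdat i).2.2.2.2.2.2.2 _ k).1,
          (asgn_spec (hdat i).2.2.2.2.2.1 (hdat i).2.2.2.2.2.2.2 _ k).1] at h4
      · have h3 := hsep
        simp only [sepB, List.all_eq_true, List.mem_range] at h3
        have h4 := h3 i.val i.isLt j.val j.isLt
        simp only [Bool.or_eq_true, Bool.not_eq_true', List.getD_eq_getElem _ _ i.isLt,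
          List.getD_eq_getElem _ _ j.isLt, ← List.get_eq_getElem] at h4
        rcases h4.resolve_left fun e => hij (Fin.ext (Nat.eq_of_beq_eq_true e)) with hh | hh
        · refine ⟨_, (hdat j).1, ?_⟩
          rw [(hrs ⟨i, s, v⟩).2 _ (hdat j).1 (notMem_of_elem hh), (hrs ⟨j, s', v'⟩).1]
          exact s'.2.symm
        · refine ⟨_, (hdat i).1, ?_⟩
          rw [(hrs ⟨j, s', v'⟩).2 _ (hdat i).1 (notMem_of_elem hh), (hrs ⟨i, s, v⟩).1]
          exact s.2
  rw [Fintype.sum_option] at hsum
  refine le_trans ?_ hsum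
  rw [add_comm]
  refine add_le_add le_rfl ?_
  have hone : ∀ i : I, μ ≤ finrank ℂ (W ρ hP Φ S (g (some i))) := fun i =>
    (hw _ (List.get_mem cls i.1) _ i.2.1.1.2 i.2.1.2).trans
      (shifts_finrank (hdat i.1).2.2.1
        (asgn_okA (hdat i.1).2.2.2.2.2.1 (hdat i.1).2.2.2.2.2.2.2 fun j => (i.2.2 j).2)
        fun z hz => single_ne _ fun e => (hdat i.1).2.2.2.1 (e ▸ hz))
  refine le_trans ?_ (Finset.card_nsmul_le_sum _ _ μ fun i _ => hone i)
  rw [smul_eq_mul, Finset.card_univ, mul_comm μ, Fintype.card_sigma]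
  refine le_of_eq ?_
  congr 1
  simp only [orbSum, Fintype.card_prod, Fintype.card_pi, card_vals hF hfix]
  have hunit : Fintype.card {s : {x : F // σ x = x} // s.1 ≠ 0} = q - 1 := by
    rw [Fintype.card_subtype_compl, hfix]
    congr 1
    exact Fintype.card_eq_one_iff.2 ⟨⟨⟨0, map_zero σ⟩, rfl⟩, fun y => Subtype.ext (Subtype.ext y.2)⟩
  rw [hunit, ← List.sum_ofFn]
  congr 1
  rw [← List.ofFn_get (cls.map _)]
  simp [List.ofFn_inj']

/-- the conditions for clearing by blocks -/
noncomputable def clearB (D : ChevalleyDatum) (A : Aux) (f : Fold) (S : List ℕ) (piv : ℕ) :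
    List (ℕ × ℕ) → List ℕ → Bool
  | [], _ => true
  | (b, t) :: st, Z =>
    normB D A f b S S Z && blkB f (b, t) && hitB A piv b t && S.elem t && S.elem (f.r t) &&
      Nat.blt t D.nroots && srcB A Z b piv && Z.all (srcB A Z b) &&
      (Nat.beq (f.r b) b || (srcB A Z (f.r b) piv && srcB A Z (f.r b) t && Z.all (srcB A Z (f.r b)))) &&
      clearB D A f S piv st (t :: f.r t :: Z)

theorem exists_clear (hΦ : GoodChar σ Φ) {S : List ℕ} {piv : ℕ} (hpn : piv < D.nroots) (hpS : piv ∈ S)
    (hpf : f.r piv = piv) : ∀ (st : List (ℕ × ℕ)) {Z : List ℕ}, clearB D A f S piv st Z = true →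
    ∀ {c : ℕ → F}, (∀ z ∈ Z, c z = 0) → c piv ≠ 0 → W ρ hP Φ S c ≠ ⊥ →
    ∃ c', c' piv = c piv ∧ (∀ z ∈ Z, c' z = 0) ∧ (∀ p ∈ st, c' p.2 = 0 ∧ c' (f.r p.2) = 0) ∧
      finrank ℂ (W ρ hP Φ S c) ≤ finrank ℂ (W ρ hP Φ S c')
  | [], Z, _, c, hc, _, _ => ⟨c, rfl, hc, by simp, le_rfl⟩
  | (b, t) :: st, Z, hb, c, hc, hp, hne => by
    simp only [clearB, Bool.and_eq_true, Bool.or_eq_true, List.elem_iff, Nat.blt_eq,
      List.all_eq_true] at hb
    obtain ⟨⟨⟨⟨⟨⟨⟨⟨⟨hn, hblk⟩, hhit⟩, htS⟩, htS'⟩, htn⟩, hpb⟩, hZb⟩, hbar⟩, hrest⟩ := hb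
    have hbn : b < D.nroots := by
      simp only [normB, Bool.and_eq_true, Nat.blt_eq] at hn
      exact hn.1.1
    obtain ⟨e, he, hlin⟩ := shift_hit (F := F) (D := D) hhit
    obtain ⟨ε, hε⟩ := hP.exists_half
    set a := c t / (e * c piv) with ha
    have key : ∃ x c1, shiftL D A (stepsP τ b x) c = shiftC D A b a c1 ∧ c1 piv = c piv ∧ c1 t = c t ∧
        ∀ z ∈ Z, c1 z = 0 := by
      unfold stepsP
      rcases hfb : Nat.beq (f.r b) b
      · obtain ⟨⟨g1, g2⟩, g3⟩ := hbar.resolve_left (by simp [hfb])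
        refine ⟨a, shiftC D A (f.r b) (τ.phi b a) c, rfl, shiftC_src g1 hc _, shiftC_src g2 hc _,
          fun z hz => ?_⟩
        rw [shiftC_src (g3 z hz) hc, hc z hz]
      · have hfb' := Nat.eq_of_beq_eq_true hfb
        simp only [blkB, hfb, if_true] at hblk
        refine ⟨ε * a, c, ?_, rfl, rfl, hc⟩
        simp only [if_true, shiftL]
        congr 1
        have h2 : σ a = a := by
          have hκ : σ e = e := by
            simp only [hitB, Bool.and_eq_true, Bool.not_eq_true'] at hhit
            rcases hk : addR A b t with _ | ⟨k, κ⟩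
            · rw [hk] at hhit
              exact absurd hhit.2 Bool.false_ne_true
            · rw [hk] at hhit
              simp only [Bool.and_eq_true] at hhit
              have h5 := hlin (fun _ => (1 : F)) 1
              simp only [shiftC, hhit.1, Bool.false_eq_true, if_false, hk, mul_one] at h5
              rw [← sub_right_inj.1 h5, map_intCast]
          rw [ha, map_div₀, map_mul, hκ, weight_single hΦ hne htn htS (Nat.eq_of_beq_eq_true hblk),
            weight_single hΦ hne hpn hpS hpf]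
        rw [hP.phi_single b hbn hfb', map_mul, h2, ← add_mul, hε, one_mul]
    obtain ⟨x, c1, hx, h1p, h1t, h1Z⟩ := key
    set c2 := shiftL D A (stepsP τ b x) c
    have hle : finrank ℂ (W ρ hP Φ S c) ≤ finrank ℂ (W ρ hP Φ S c2) :=
      finrank_le_of_maps (ρ := ρ) (Y hP b x) fun v hv => Y_mem hn hc hv x
    have hne2 : W ρ hP Φ S c2 ≠ ⊥ := Submodule.one_le_finrank_iff.1 ((one_le_finrank hne).trans hle)
    have h2t : c2 t = 0 := by
      rw [hx, hlin, h1p, h1t, ha]
      field_simp
      ring
    have hz : ∀ z ∈ t :: f.r t :: Z, c2 z = 0 := fun z hz => by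
      rcases List.mem_cons.1 hz with rfl | hz
      · exact h2t
      rcases List.mem_cons.1 hz with rfl | hz
      · exact weight_zero hΦ hne2 htn htS htS' h2t
      · rw [hx, shiftC_src (hZb z hz) h1Z, h1Z z hz]
    have hpv : c2 piv = c piv := by rw [hx, shiftC_src hpb h1Z, h1p]
    obtain ⟨c', g1, g2, g3, g4⟩ :=
      exists_clear hΦ hpn hpS hpf st hrest hz (by rwa [hpv]) hne2
    refine ⟨c', g1.trans hpv, fun z hz => g2 z (List.mem_cons_of_mem _ (List.mem_cons_of_mem _ hz)),
      fun p hp' => ?_, hle.trans g4⟩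
    rcases List.mem_cons.1 hp' with rfl | hp'
    · exact ⟨g2 _ List.mem_cons_self, g2 _ (List.mem_cons_of_mem _ List.mem_cons_self)⟩
    · exact g3 p hp'

end CfsgLib.CharsMore.TwMinDeg
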